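import Groth.Agent.AlgSpDec.ElemExists
import Groth.Agent.AlgSpDec.PointsSpectral
import Groth.Agent.AlgSpDec.RedInduced
import Groth.Agent.AlgSpDec.SchImage
import Groth.Agent.AlgSpLib.FpqcDescent
import Groth.Agent.AlgSpPts.SepDescent

/-!
# Elementary etale steps exhausting a quasi-compact quasi-separated space

An etale `f : V ⟶ X` from an affine scheme is `Inj` on a set `A` of points when two geometric-type points
of `V` with the same image in `A` are equal.  A quasi-compact quasi-separated space is obtained from any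
quasi-compact open by finitely many steps, each adding the image of such a map injective over what is new.
-/

set_option backward.isDefEq.respectTransparency false
set_option backward.isDefEq.respectTransparency.types false

universe u

open CategoryTheory CategoryTheory.Limits AlgebraicGeometry AlgSp Groth.Agent.AlgSpLib Groth.Agent.AlgSpPts
  Groth.Agent.AlgSpDec TopologicalSpace Topology

namespace Groth.Agent.AlgSpDec2.ElemChain

variable {S : Scheme.{u}} {X : Sp S} {V : Over S}

/-- `f` separates one-point reduced test schemes lying over `A`. -/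
def Inj (f : (yon S).obj V ⟶ X) (A : Set (Points X)) : Prop :=
  ∀ (T : Over S) (p q : T ⟶ V), IsReduced T.left → Subsingleton ↥T.left →
    (yon S).map p ≫ f = (yon S).map q ≫ f → (∀ t, Points.ofPt f (p.left t) ∈ A) → p = q

/-- The diagonal into the self product of a chart. -/
theorem exists_diag {f : (yon S).obj V ⟶ X} (hf : RepWith @Etale f) :
    ∃ δ : V ⟶ hf.rep.pullback f, δ ≫ hf.rep.fst' f = 𝟙 V ∧ δ ≫ hf.rep.snd f = 𝟙 V := by
  obtain ⟨δ, hδ⟩ := (yon S).map_surjective ((hf.rep.isPullback' f).lift (𝟙 _) (𝟙 _) rfl)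
  exact ⟨δ, (yon S).map_injective (by rw [Functor.map_comp, hδ, IsPullback.lift_fst, CategoryTheory.Functor.map_id]),
    (yon S).map_injective (by rw [Functor.map_comp, hδ, IsPullback.lift_snd, CategoryTheory.Functor.map_id])⟩

theorem eq_comp_diag {f : (yon S).obj V ⟶ X} (hf : RepWith @Etale f) {δ : V ⟶ hf.rep.pullback f}
    (h₁ : δ ≫ hf.rep.fst' f = 𝟙 V) (h₂ : δ ≫ hf.rep.snd f = 𝟙 V) {T : Over S} (l : T ⟶ hf.rep.pullback f)
    (h : l ≫ hf.rep.fst' f = l ≫ hf.rep.snd f) : (l ≫ hf.rep.snd f) ≫ δ = l := by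
  apply (yon S).map_injective
  refine (hf.rep.isPullback' f).hom_ext ?_ ?_
  · rw [← Functor.map_comp, ← Functor.map_comp, Category.assoc, h₁, Category.comp_id, h]
  · rw [← Functor.map_comp, ← Functor.map_comp, Category.assoc, h₂, Category.comp_id]

theorem mem_range_diag {f : (yon S).obj V ⟶ X} (hf : RepWith @Etale f) {δ : V ⟶ hf.rep.pullback f}
    (h₁ : δ ≫ hf.rep.fst' f = 𝟙 V) (h₂ : δ ≫ hf.rep.snd f = 𝟙 V) {T : Over S} (l : T ⟶ hf.rep.pullback f)
    (h : l ≫ hf.rep.fst' f = l ≫ hf.rep.snd f) (t : ↥T.left) : l.left t ∈ Set.range δ.left := by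
  refine ⟨(l ≫ hf.rep.snd f).left t, ?_⟩
  rw [← Scheme.Hom.comp_apply, ← Over.comp_left, eq_comp_diag hf h₁ h₂ l h]

/-- The residue field point of a scheme over `S`. -/
noncomputable def resPt {R : Over S} (r : ↥R.left) :
    Over.mk (R.left.fromSpecResidueField r ≫ R.hom) ⟶ R :=
  Over.homMk (R.left.fromSpecResidueField r) rfl

theorem isOpenImmersion_diag {f : (yon S).obj V ⟶ X} (hf : RepWith @Etale f) {δ : V ⟶ hf.rep.pullback f}
    (h₂ : δ ≫ hf.rep.snd f = 𝟙 V) : IsOpenImmersion δ.left := by
  haveI : Etale (hf.rep.snd f).left := hf.property_snd f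
  have h : δ.left ≫ (hf.rep.snd f).left = 𝟙 _ := congrArg CommaMorphism.left h₂
  haveI : Etale (δ.left ≫ (hf.rep.snd f).left) := by rw [h]; infer_instance
  haveI : Etale δ.left := Etale.of_comp δ.left (hf.rep.snd f).left
  haveI : IsSplitMono δ.left := ⟨⟨⟨(hf.rep.snd f).left, h⟩⟩⟩
  exact IsOpenImmersion.of_flat_of_mono δ.left

theorem isClosed_range_diag [IsAffine V.left] {f : (yon S).obj V ⟶ X} (hf : RepWith @Etale f)
    {δ : V ⟶ hf.rep.pullback f} (h₁ : δ ≫ hf.rep.fst' f = 𝟙 V) (h₂ : δ ≫ hf.rep.snd f = 𝟙 V) :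
    IsClosed (Set.range δ.left) := by
  let p₁ := (hf.rep.fst' f).left
  let p₂ := (hf.rep.snd f).left
  let t := terminal.from V.left
  let m : (hf.rep.pullback f).left ⟶ pullback t t := pullback.lift p₁ p₂ (terminal.hom_ext _ _)
  haveI : IsSeparated t := inferInstance
  haveI : IsClosedImmersion (pullback.diagonal t) := inferInstance
  have heq : Set.range δ.left = m ⁻¹' Set.range (pullback.diagonal t) := by
    ext r
    constructor
    · rintro ⟨v, rfl⟩
      refine ⟨v, ?_⟩
      rw [← Scheme.Hom.comp_apply]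
      suffices e : pullback.diagonal t = δ.left ≫ m by rw [e]
      apply pullback.hom_ext
      · rw [pullback.diagonal_fst, Category.assoc, pullback.lift_fst]
        exact (congrArg CommaMorphism.left h₁).symm
      · rw [pullback.diagonal_snd, Category.assoc, pullback.lift_snd]
        exact (congrArg CommaMorphism.left h₂).symm
    · intro hr
      let T := Over.mk ((hf.rep.pullback f).left.fromSpecResidueField r ≫ (hf.rep.pullback f).hom)
      haveI : IsReduced T.left := inferInstanceAs (IsReduced (Spec _))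
      obtain ⟨v, hv⟩ := exists_factor_closed (pullback.diagonal t) ((resPt r).left ≫ m) (by
        rintro _ ⟨z, rfl⟩
        rw [Scheme.Hom.comp_apply, show (resPt r).left z = r from Scheme.fromSpecResidueField_apply r z]
        exact hr)
      have e₁ := congrArg (fun k => k ≫ pullback.fst t t) hv
      have e₂ := congrArg (fun k => k ≫ pullback.snd t t) hv
      simp only [m, Category.assoc, pullback.diagonal_fst, pullback.diagonal_snd, Category.comp_id,
        pullback.lift_fst, pullback.lift_snd] at e₁ e₂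
      obtain ⟨z⟩ : Nonempty ↥T.left := ⟨IsLocalRing.closedPoint ((hf.rep.pullback f).left.residueField r)⟩
      have h := mem_range_diag hf h₁ h₂ (resPt r) (Over.OverMorphism.ext (e₁.symm.trans e₂)) z
      rwa [show (resPt r).left z = r from Scheme.fromSpecResidueField_apply r z] at h
  rw [heq]
  exact (pullback.diagonal t).isClosedEmbedding.isClosed_range.preimage m.continuous

theorem compactSpace_pullback [QuasiSeparatedSpace ↥S] (hX : IsAlgSpace X) (hqs : IsQuasiSeparatedSp X)
    [CompactSpace ↥V.left] {f : (yon S).obj V ⟶ X} (hf : RepWith @Etale f) :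
    CompactSpace ↥(hf.rep.pullback f).left := by
  have hq : IsQuasiCompactSp ((yon S).obj V) := by
    haveI : CompactSpace (Points ((yon S).obj V)) := (Points.schemeHomeo _).compactSpace
    exact (isQuasiCompactSp_iff (IsAlgSpace.yon_obj V)).2 ‹_›
  have h := (repWith_quasiCompact hf.rep (isQuasiCompactMor_of_qc_qs (IsAlgSpace.yon_obj V) hX hq hqs f))
  haveI : QuasiCompact (hf.rep.snd f).left := h.property_snd f
  exact QuasiCompact.compactSpace_of_compactSpace (hf.rep.snd f).left

/-- The points over which an etale map from an affine scheme is not injective form a compact open. -/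
theorem exists_bad [QuasiSeparatedSpace ↥S] (hX : IsAlgSpace X) (hqs : IsQuasiSeparatedSp X) [IsAffine V.left]
    {f : (yon S).obj V ⟶ X} (hf : RepWith @Etale f) :
    ∃ B : Set (Points X), IsOpen B ∧ IsCompact B ∧ Inj f Bᶜ ∧
      ∀ u, IsElemEtaleNbhd f u (Points.ofPt f u) → Points.ofPt f ⁻¹' {Points.ofPt f u} = {u} →
        Points.ofPt f u ∉ B := by
  obtain ⟨δ, h₁, h₂⟩ := exists_diag hf
  haveI := compactSpace_pullback hX hqs hf
  haveI := isOpenImmersion_diag hf h₂
  have hcl := isClosed_range_diag hf h₁ h₂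
  let g := (yon S).map (hf.rep.snd f) ≫ f
  have hg : RepWith @Etale g := repWith_comp ((repWith_yon_map_iff _ _).2 (hf.property_snd f)) hf
  have hw : (yon S).map (hf.rep.fst' f) ≫ f = g := (hf.rep.isPullback' f).w
  refine ⟨Points.ofPt g '' (Set.range δ.left)ᶜ, isOpenMap_ofPt hg _ hcl.isOpen_compl,
    (δ.left.isOpenEmbedding.isOpen_range.isClosed_compl.isCompact).image (Points.continuous_ofPt g), ?_, ?_⟩
  · intro T p q hT hs hpq hA
    obtain ⟨l, hl⟩ := (yon S).map_surjective ((hf.rep.isPullback' f).lift ((yon S).map p) ((yon S).map q) hpq)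
    have hlp : l ≫ hf.rep.fst' f = p := (yon S).map_injective (by rw [Functor.map_comp, hl]; exact IsPullback.lift_fst _ _ _ _)
    have hlq : l ≫ hf.rep.snd f = q := (yon S).map_injective (by rw [Functor.map_comp, hl]; exact IsPullback.lift_snd _ _ _ _)
    rcases isEmpty_or_nonempty ↥T.left with hE | hne
    · exact Over.OverMorphism.ext ((isInitialOfIsEmpty (X := T.left)).hom_ext _ _)
    obtain ⟨t⟩ := hne
    have hr : l.left t ∈ Set.range δ.left := by
      by_contra hr
      refine hA t ⟨_, hr, ?_⟩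
      rw [← hlp, Over.comp_left, Scheme.Hom.comp_apply, ← hw, ofPt_comp]
    obtain ⟨k, hk⟩ : ∃ k : T.left ⟶ V.left, k ≫ δ.left = l.left :=
      ⟨IsOpenImmersion.lift δ.left l.left (Set.range_subset_iff.2 fun t' => Subsingleton.elim t t' ▸ hr),
        IsOpenImmersion.lift_fac _ _ _⟩
    refine Over.OverMorphism.ext ?_
    rw [← hlp, ← hlq, Over.comp_left, Over.comp_left, ← hk, Category.assoc, Category.assoc, ← Over.comp_left,
      ← Over.comp_left, h₁, h₂]
  · rintro u hel hu ⟨r, hr, hre⟩
    refine hr ?_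
    let T := Over.mk ((hf.rep.pullback f).left.fromSpecResidueField r ≫ (hf.rep.pullback f).hom)
    haveI : IsReduced T.left := inferInstanceAs (IsReduced (Spec _))
    haveI : Subsingleton ↥T.left :=
      inferInstanceAs (Subsingleton (PrimeSpectrum ((hf.rep.pullback f).left.residueField r)))
    have hl : ∀ z, (resPt r).left z = r := fun z => Scheme.fromSpecResidueField_apply r z
    have key : ∀ (k : hf.rep.pullback f ⟶ V), (yon S).map k ≫ f = g →
        ∃ σ : T ⟶ (FieldPt.ofPt f u).pt, σ ≫ Over.homMk (V.left.fromSpecResidueField u) rfl = resPt r ≫ k := by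
      intro k hk
      have hku : k.left r = u := by
        have : k.left r ∈ Points.ofPt f ⁻¹' {Points.ofPt f u} := by
          rw [Set.mem_preimage, ← ofPt_comp, hk, hre]; rfl
        rwa [hu] at this
      obtain ⟨σ₀, hσ₀⟩ := exists_factor_residueField (T := T.left) (resPt r ≫ k).left u fun z => by
        rw [Over.comp_left, Scheme.Hom.comp_apply, hl, hku]
      refine ⟨Over.homMk σ₀ ?_, Over.OverMorphism.ext hσ₀⟩
      change σ₀ ≫ V.left.fromSpecResidueField u ≫ V.hom = _
      rw [reassoc_of% hσ₀]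
      exact Over.w (resPt r ≫ k)
    obtain ⟨σ, hσ⟩ := key (hf.rep.fst' f) hw
    obtain ⟨τ, hτ⟩ := key (hf.rep.snd f) rfl
    haveI := hel.mono
    have hστ : σ = τ := by
      apply (yon S).map_injective
      rw [← cancel_mono (FieldPt.ofPt f u).toHom, FieldPt.toHom_ofPt, ← Functor.map_comp_assoc, hσ,
        ← Functor.map_comp_assoc, hτ, Functor.map_comp, Functor.map_comp, Category.assoc, Category.assoc, hw]
    obtain ⟨z⟩ : Nonempty ↥T.left := ⟨IsLocalRing.closedPoint ((hf.rep.pullback f).left.residueField r)⟩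
    have h := mem_range_diag hf h₁ h₂ (resPt r) (by rw [← hσ, ← hτ, hστ]) z
    rwa [hl] at h

theorem inj_mono {f : (yon S).obj V ⟶ X} {A B : Set (Points X)} (h : Inj f A) (hBA : B ⊆ A) : Inj f B :=
  fun T p q hT hs hpq hB => h T p q hT hs hpq fun t => hBA (hB t)

theorem inj_restrict {f : (yon S).obj V ⟶ X} {A : Set (Points X)} (h : Inj f A) {V' : Over S} (ι : V' ⟶ V)
    [Mono ι] : Inj ((yon S).map ι ≫ f) A := fun T p q hT hs hpq hA => by
  refine (cancel_mono ι).1 (h T (p ≫ ι) (q ≫ ι) hT hs (by
    rw [Functor.map_comp, Functor.map_comp, Category.assoc, Category.assoc]; exact hpq) fun t => ?_)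
  rw [Over.comp_left, Scheme.Hom.comp_apply, ← ofPt_comp]
  exact hA t

/-- Over a space mapping into a set on which `f` is injective and surjective, the base change is an isomorphism. -/
theorem isIso_fst (hX : IsAlgSpace X) {f : (yon S).obj V ⟶ X} (hf : RepWith @Etale f) {A : Set (Points X)}
    (hA : Inj f A) {T P : Sp S} (hT : IsAlgSpace T) (i : T ⟶ X) (hi : Set.range (Points.map i) ⊆ A)
    (hsurj : Set.range (Points.map i) ⊆ Set.range (Points.ofPt f)) {fst : P ⟶ T} {snd : P ⟶ (yon S).obj V}
    (sq : IsPullback fst snd i f) : IsIso fst := by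
  have hfe : RepWith @Etale fst := repWith_of_isPullback sq.flip hf
  have hfs : RepWith @Surjective fst := repWith_surjective_of_surjective hfe.rep fun z => by
    obtain ⟨v, hv⟩ := hsurj ⟨z, rfl⟩
    rw [Points.ofPt_eq_map_ofScheme] at hv
    obtain ⟨p, hp, -⟩ := exists_point_of_isPullback sq hv.symm
    exact ⟨p, hp⟩
  haveI : Mono fst := by
    refine mono_of_yon_injective fun B a b hab => ?_
    obtain ⟨p, hp⟩ := (yon S).map_surjective (a ≫ snd)
    obtain ⟨q, hq⟩ := (yon S).map_surjective (b ≫ snd)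
    have hpf : (yon S).map p ≫ f = a ≫ fst ≫ i := by rw [hp, Category.assoc, sq.w]
    have hqf : (yon S).map q ≫ f = a ≫ fst ≫ i := by rw [hq, Category.assoc, ← sq.w, reassoc_of% hab]
    refine sq.hom_ext hab ?_
    rw [← hp, ← hq]
    congr 1
    obtain ⟨δ, h₁, h₂⟩ := exists_diag hf
    haveI := isOpenImmersion_diag hf h₂
    obtain ⟨l, hl⟩ := (yon S).map_surjective ((hf.rep.isPullback' f).lift ((yon S).map p) ((yon S).map q)
      (hpf.trans hqf.symm))
    have hlp : l ≫ hf.rep.fst' f = p := (yon S).map_injective (by rw [Functor.map_comp, hl]; exact IsPullback.lift_fst _ _ _ _)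
    have hlq : l ≫ hf.rep.snd f = q := (yon S).map_injective (by rw [Functor.map_comp, hl]; exact IsPullback.lift_snd _ _ _ _)
    have hr : Set.range l.left ⊆ Set.range δ.left := by
      rintro _ ⟨c, rfl⟩
      let C := Over.mk (B.left.fromSpecResidueField c ≫ B.hom)
      haveI : IsReduced C.left := inferInstanceAs (IsReduced (Spec _))
      haveI : Subsingleton ↥C.left :=
        inferInstanceAs (Subsingleton (PrimeSpectrum (B.left.residueField c)))
      have e := hA C (resPt c ≫ p) (resPt c ≫ q) inferInstance inferInstance (by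
        rw [Functor.map_comp, Functor.map_comp, Category.assoc, Category.assoc, hpf, hqf]) fun z => hi ?_
      · obtain ⟨z⟩ : Nonempty ↥C.left := ⟨IsLocalRing.closedPoint (B.left.residueField c)⟩
        have h := mem_range_diag hf h₁ h₂ (resPt c ≫ l) (by
          rw [Category.assoc, Category.assoc, hlp, hlq]; exact e) z
        rwa [Over.comp_left, Scheme.Hom.comp_apply, show (resPt c).left z = c from
          Scheme.fromSpecResidueField_apply c z] at h
      · refine ⟨Points.ofPt ((yon S).map (resPt c) ≫ a ≫ fst) z, ?_⟩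
        rw [Points.map_ofPt, ← ofPt_comp, Functor.map_comp]
        simp only [Category.assoc, hpf]
    obtain ⟨k, hk⟩ : ∃ k, k ≫ δ.left = l.left :=
      ⟨IsOpenImmersion.lift δ.left l.left hr, IsOpenImmersion.lift_fac _ _ _⟩
    refine Over.OverMorphism.ext ?_
    rw [← hlp, ← hlq, Over.comp_left, Over.comp_left, ← hk, Category.assoc, Category.assoc, ← Over.comp_left,
      ← Over.comp_left, h₁, h₂]
  haveI : Epi fst := epi_of_etale_surjective hfe hfs
  exact isIso_of_mono_of_epi fst

/-- One step: add the image of an affine etale map which is injective over the new points. -/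
def Step (X : Sp S) (A B : Set (Points X)) : Prop :=
  ∃ (V : Over S) (f : (yon S).obj V ⟶ X), IsAffine V.left ∧ RepWith @Etale f ∧
    B = A ∪ Set.range (Points.ofPt f) ∧ Inj f (B \ A)

theorem step_compact {A B : Set (Points X)} (h : Step X A B) (hA : IsOpen A) (hAc : IsCompact A) :
    IsOpen B ∧ IsCompact B ∧ A ⊆ B := by
  obtain ⟨V, f, hV, hf, rfl, -⟩ := h
  exact ⟨hA.union (isOpenMap_ofPt hf).isOpen_range,
    hAc.union (isCompact_range (Points.continuous_ofPt f)), Set.subset_union_left⟩

theorem reach_affines {B : Set (Points X)} (hB : IsOpen B) {f : (yon S).obj V ⟶ X} (hf : RepWith @Etale f)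
    {A : Set (Points X)} (hA : IsOpen A) (hBc : IsCompact B) (hAB : A ⊆ B) (hinj : Inj f (B \ A))
    (hsub : B \ A ⊆ Set.range (Points.ofPt f)) : Relation.ReflTransGen (Step X) A B := by
  classical
  let O : V.left.Opens := ⟨Points.ofPt f ⁻¹' B, hB.preimage (Points.continuous_ofPt f)⟩
  let I := {W : V.left.Opens // IsAffineOpen W ∧ W ≤ O}
  let b : ∀ W : I, (yon S).obj (Over.mk (W.1.ι ≫ V.hom)) ⟶ X := fun W =>
    (yon S).map (Over.homMk W.1.ι rfl : Over.mk (W.1.ι ≫ V.hom) ⟶ V) ≫ f
  have hb : ∀ W, RepWith @Etale (b W) := fun W =>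
    repWith_comp ((repWith_yon_map_iff _ _).2 (inferInstanceAs (Etale W.1.ι))) hf
  have hcov : B \ A ⊆ ⋃ W : I, Set.range (Points.ofPt (b W)) := fun x hx => by
    obtain ⟨v, rfl⟩ := hsub hx
    obtain ⟨W, hW, hvW, hWO⟩ := exists_isAffineOpen_mem_and_subset (U := O) (x := v) hx.1
    exact Set.mem_iUnion.2 ⟨⟨W, hW, hWO⟩, (⟨v, hvW⟩ : W.toScheme), ofPt_comp _ _ _⟩
  have hle : ∀ W, Set.range (Points.ofPt (b W)) ⊆ B := by
    rintro W _ ⟨w, rfl⟩
    rw [ofPt_comp]
    exact W.2.2 (w : W.1.toScheme).2
  obtain ⟨s, hs⟩ := (hBc.diff hA).elim_finite_subcover _ (fun W => (isOpenMap_ofPt (hb W)).isOpen_range) hcov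
  suffices h : ∀ t : Finset I, Relation.ReflTransGen (Step X) A (A ∪ ⋃ W ∈ t, Set.range (Points.ofPt (b W))) by
    convert h s
    refine subset_antisymm (fun x hx => ?_) (Set.union_subset hAB (Set.iUnion₂_subset fun W _ => hle W))
    by_cases hxA : x ∈ A
    · exact Or.inl hxA
    · exact Or.inr (hs ⟨hx, hxA⟩)
  intro t
  induction t using Finset.induction with
  | empty => simp only [Finset.notMem_empty, Set.iUnion_of_empty, Set.iUnion_empty, Set.union_empty]; exact .refl
  | insert W t hW ih =>
    refine ih.tail ⟨_, b W, W.2.1, hb W, ?_, ?_⟩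
    · rw [Finset.set_biUnion_insert, Set.union_assoc]
      congr 1
      exact Set.union_comm _ _
    · haveI : IsOpenImmersion (Over.homMk W.1.ι rfl : Over.mk (W.1.ι ≫ V.hom) ⟶ V).left :=
        inferInstanceAs (IsOpenImmersion W.1.ι)
      haveI := Over.mono_of_mono_left (Over.homMk W.1.ι rfl : Over.mk (W.1.ι ≫ V.hom) ⟶ V)
      refine inj_restrict (inj_mono hinj ?_) _
      rintro x ⟨hx, hx'⟩
      refine ⟨?_, fun h => hx' (Or.inl h)⟩
      rcases hx with hx | hx
      · exact hAB hx
      · obtain ⟨W', -, h⟩ := Set.mem_iUnion₂.1 hx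
        exact hle W' h

/-- Every quasi-compact open is joined to the whole space by finitely many steps. -/
theorem reach_univ [QuasiSeparatedSpace ↥S] (hX : IsAlgSpace X) (hqc : IsQuasiCompactSp X)
    (hqs : IsQuasiSeparatedSp X) {W₀ : Set (Points X)} (hW₀ : IsOpen W₀) (hW₀c : IsCompact W₀) :
    Relation.ReflTransGen (Step X) W₀ Set.univ := by
  haveI := spectralSpace_points hX hqc hqs
  have hdec := isDecent_of_isQuasiSeparatedSp hX hqs
  choose V f u hV hel hu using exists_elem_affine hX hdec
  have hf := fun x => (hel x).etale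
  choose B hBo hBc hBi hBu using fun x => exists_bad (V := V x) hX hqs (hf x)
  let π := WithTopology.ofTopology (t := constructibleTopology (Points X))
  let T : Points X → Set (Points X) := fun x => Set.range (Points.ofPt (f x)) \ B x
  have hRc : ∀ x, IsCompact (Set.range (Points.ofPt (f x))) := fun x =>
    haveI := hV x
    isCompact_range (Points.continuous_ofPt (f x))
  have hTo : ∀ x, IsOpen (π ⁻¹' T x : Set (WithConstructibleTopology (Points X))) := fun x => by
    rw [Set.preimage_diff]
    refine IsOpen.sdiff ?_ (isClosed_constructible_of_isCompact (hBc x) (hBo x))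
    rw [WithConstructibleTopology.isOpen_iff]
    convert IsCompact.isOpen_constructibleTopology_of_isOpen (hRc x) (isOpenMap_ofPt (hf x)).isOpen_range using 1
    ext; simp [π]
  have hTx : ∀ x, x ∈ T x := fun x => by
    refine ⟨⟨u x, (hel x).ofPt_eq⟩, ?_⟩
    have h := hBu x (u x) (by rw [(hel x).ofPt_eq]; exact hel x) (by rw [(hel x).ofPt_eq]; exact hu x)
    rwa [(hel x).ofPt_eq] at h
  obtain ⟨F, hF⟩ := isCompact_univ.elim_finite_subcover (fun x => π ⁻¹' T x) hTo
    (fun z _ => Set.mem_iUnion.2 ⟨π z, hTx (π z)⟩)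
  classical
  let L : Finset (Set (Points X)) := F.image (fun x => Set.range (Points.ofPt (f x))) ∪ F.image B
  have hL : ∀ O ∈ L, IsOpen O ∧ IsCompact O := by
    intro O hO
    rcases Finset.mem_union.1 hO with hO | hO <;> obtain ⟨x, -, rfl⟩ := Finset.mem_image.1 hO
    · exact ⟨(isOpenMap_ofPt (hf x)).isOpen_range, hRc x⟩
    · exact ⟨hBo x, hBc x⟩
  suffices h : ∀ M : Finset (Set (Points X)), M ⊆ L → ∀ A C : Set (Points X), IsOpen A → IsCompact A →
      IsOpen C → IsCompact C → A ⊆ C →
      (∀ O ∈ L, O ∉ M → ∀ y ∈ C \ A, ∀ z ∈ C \ A, y ∈ O → z ∈ O) → Relation.ReflTransGen (Step X) A C from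
    h L subset_rfl _ _ hW₀ hW₀c isOpen_univ isCompact_univ (Set.subset_univ _) fun O hO hO' => absurd hO hO'
  intro M
  induction M using Finset.induction with
  | empty =>
    intro _ A C hA hAc hC hCc hAC hagree
    rcases (C \ A).eq_empty_or_nonempty with he | ⟨y, hy⟩
    · rw [Set.sdiff_eq_empty] at he
      rw [subset_antisymm hAC he]
    obtain ⟨z, rfl⟩ := WithTopology.ofTopology_surjective (t := constructibleTopology (Points X)) y
    obtain ⟨x, hx, hyx⟩ := Set.mem_iUnion₂.1 (hF (Set.mem_univ z))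
    have h1 : C \ A ⊆ Set.range (Points.ofPt (f x)) := fun w hw =>
      hagree _ (Finset.mem_union_left _ (Finset.mem_image_of_mem _ hx)) (Finset.notMem_empty _) _ hy _ hw hyx.1
    have h2 : C \ A ⊆ (B x)ᶜ := fun w hw hwB => hyx.2
      (hagree _ (Finset.mem_union_right _ (Finset.mem_image_of_mem _ hx)) (Finset.notMem_empty _) _ hw _ hy hwB)
    exact reach_affines hC (hf x) hA hCc hAC (inj_mono (hBi x) h2) h1
  | insert O M hO ih =>
    intro hML A C hA hAc hC hCc hAC hagree
    obtain ⟨hOo, hOc⟩ := hL O (hML (Finset.mem_insert_self _ _))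
    have hM : M ⊆ L := (Finset.subset_insert _ _).trans hML
    have hD : A ∪ C ∩ O ⊆ C := Set.union_subset hAC Set.inter_subset_left
    have hDo : IsOpen (A ∪ C ∩ O) := hA.union (hC.inter hOo)
    have hDc : IsCompact (A ∪ C ∩ O) :=
      hAc.union (QuasiSeparatedSpace.inter_isCompact _ _ hC hCc hOo hOc)
    refine (ih hM A _ hA hAc hDo hDc Set.subset_union_left ?_).trans (ih hM _ C hDo hDc hC hCc hD ?_)
    · intro O' hO' hO'M y hy z hz hyO'
      rcases eq_or_ne O' O with rfl | hne
      · rcases hz.1 with h | h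
        · exact absurd h hz.2
        · exact h.2
      · exact hagree O' hO' (by simp [hne, hO'M]) y ⟨hD hy.1, hy.2⟩ z ⟨hD hz.1, hz.2⟩ hyO'
    · intro O' hO' hO'M y hy z hz hyO'
      rcases eq_or_ne O' O with rfl | hne
      · exact absurd (Or.inr ⟨hy.1, hyO'⟩) hy.2
      · exact hagree O' hO' (by simp [hne, hO'M]) y ⟨hy.1, fun h => hy.2 (Or.inl h)⟩ z
          ⟨hz.1, fun h => hz.2 (Or.inl h)⟩ hyO'

end Groth.Agent.AlgSpDec2.ElemChain
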