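import Groth.Agent.AlgSpDec.ResTrdeg
import Groth.Agent.AlgSpDec.Fibres
import Groth.Agent.CycLib.LFT
import Groth.Agent.H23.SetupLFT
import Groth.Agent.S12444
import Groth.Agent.S12446
import Groth.Agent.S12447
import Groth.Agent.S7577
import Groth.Prelude.Def_W4stk3decentspacesp2Birat

/-!
# Decent spaces locally of finite type over a universally catenary base are catenary
-/

set_option backward.isDefEq.respectTransparency false
set_option backward.isDefEq.respectTransparency.types false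

universe u

open CategoryTheory CategoryTheory.Limits AlgebraicGeometry AlgSp TopologicalSpace
  Groth.Agent.AlgSpLib Groth.Agent.AlgSpDec

namespace Groth.Agent.AlgSpDec2

variable {S : Scheme.{u}} {F : Sp S} {U : Over S} {a : (yon S).obj U ⟶ F}

theorem hom_left_eq_and_rdeg_eq (ha : RepWith @Etale a) {w₁ w₂ : ↥U.left}
    (he : Points.ofPt a w₁ = Points.ofPt a w₂) :
    U.hom w₁ = U.hom w₂ ∧ VarDim.rdeg U.hom w₁ = VarDim.rdeg U.hom w₂ := by
  obtain ⟨z, rfl, rfl⟩ := exists_ofPt_of_eq (ha.rep.isPullback' a) he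
  haveI : Etale (ha.rep.snd a).left := ha.property_snd a
  haveI : Etale (ha.rep.fst' a).left := ha.property _ _ _ (ha.rep.isPullback' a).flip
  have h₁ := Over.w (ha.rep.fst' a)
  have h₂ := Over.w (ha.rep.snd a)
  refine ⟨?_, ?_⟩
  · rw [← Scheme.Hom.comp_apply, ← Scheme.Hom.comp_apply]
    exact congrArg (fun f : (ha.rep.pullback a).left ⟶ S => f z) (h₁.trans h₂.symm)
  · have h := VarDim.rdeg_congr (h₁.trans h₂.symm) z
    rwa [VarDim.rdeg_comp, VarDim.rdeg_comp, ResTrdeg.rdeg_eq_zero_of_lqf (ha.rep.fst' a).left,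
      ResTrdeg.rdeg_eq_zero_of_lqf (ha.rep.snd a).left, add_zero, add_zero] at h

/-- Near each point there is a dimension function on the space of points. -/
theorem exists_dimensionFunction [LocallyOfFiniteType U.hom] (hF : IsDecent F) (ha : RepWith @Etale a)
    (u : ↥U.left) {V : S.Opens} (hV : U.hom u ∈ V) {δ : V → ℤ} (hδ : PtTop.IsDimensionFunction δ)
    [IsLocallyNoetherian S] (hS : ∀ s : ↥S, CAlg.IsUniversallyCatenary ↥(S.presheaf.stalk s)) :
    ∃ O : Opens (Points F), Points.ofPt a u ∈ O ∧ ∃ δ' : O → ℤ, PtTop.IsDimensionFunction δ' := by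
  classical
  let g := U.hom ∣_ V
  have hsetup : Cyc.IsSetup V.toScheme δ :=
    ⟨inferInstance, fun v => H23.SetupLFT.isUniversallyCatenary_stalk V.ι v (hS _),
      fun x y h hne => ⟨hδ.1 x y h hne, fun him => hδ.2 x y ⟨h, hne, him⟩⟩⟩
  let δW : ↥(U.hom ⁻¹ᵁ V) → ℤ := fun w => δ (g w) + (FibDim.rd g w : ℤ)
  have hW : Cyc.IsDimFun (U.hom ⁻¹ᵁ V).toScheme δW :=
    CycLib.isDimFun_of_deltaCompat g hsetup fun w => ⟨FibDim.rd g w, (FibDim.rd_eq_rdeg g w).symm, rfl⟩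
  have hg : ∀ w, VarDim.rdeg g w = VarDim.rdeg U.hom w.1 := fun w => by
    have h := VarDim.rdeg_congr (morphismRestrict_ι U.hom V) w
    rwa [VarDim.rdeg_comp, VarDim.rdeg_comp, VarDim.rdeg_preimmersion V.ι,
      VarDim.rdeg_preimmersion (U.hom ⁻¹ᵁ V).ι, zero_add, add_zero] at h
  have hconst : ∀ w₁ w₂ : ↥(U.hom ⁻¹ᵁ V), Points.ofPt a w₁.1 = Points.ofPt a w₂.1 → δW w₁ = δW w₂ := by
    intro w₁ w₂ he
    obtain ⟨h₁, h₂⟩ := hom_left_eq_and_rdeg_eq ha he
    have hgv : ∀ w, (g w).1 = U.hom w.1 := fun w => by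
      have h := congrArg (fun f : (U.hom ⁻¹ᵁ V).toScheme ⟶ S => f w) (morphismRestrict_ι U.hom V)
      exact h
    have hgw : g w₁ = g w₂ := Subtype.ext ((hgv w₁).trans (h₁.trans (hgv w₂).symm))
    have hrd : FibDim.rd g w₁ = FibDim.rd g w₂ := by
      have h := (FibDim.rd_eq_rdeg g w₁).trans ((hg w₁).trans (h₂.trans ((hg w₂).symm.trans
        (FibDim.rd_eq_rdeg g w₂).symm)))
      exact Nat.cast_injective h
    simp only [δW, hgw, hrd]
  let O : Opens (Points F) := ⟨Points.ofPt a '' (U.hom ⁻¹ᵁ V : Set ↥U.left),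
    isOpenMap_ofPt ha _ (U.hom ⁻¹ᵁ V).2⟩
  have hmem : ∀ z : O, ∃ w : ↥(U.hom ⁻¹ᵁ V), Points.ofPt a w.1 = z.1 := fun z => by
    obtain ⟨w, hw, he⟩ := z.2
    exact ⟨⟨w, hw⟩, he⟩
  choose σ hσ using hmem
  let mkO : ↥(U.hom ⁻¹ᵁ V) → O := fun w => ⟨Points.ofPt a w.1, w.1, w.2, rfl⟩
  refine ⟨O, ⟨u, hV, rfl⟩, δW ∘ σ, ?_⟩
  have key : ∀ x y : O, x ⤳ y → x ≠ y → δW (σ y) < δW (σ x) ∧
      ((∀ z : O, x ⤳ z → z ⤳ y → z = x ∨ z = y) → δW (σ x) = δW (σ y) + 1) := by
    intro x y hxy hne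
    obtain ⟨u', hu', hx⟩ := exists_specializes_lift_of_isDecent hF ha
      (show x.1 ⤳ Points.ofPt a (σ y).1 by rw [hσ]; exact (subtype_specializes_iff x y).1 hxy)
    let w' : ↥(U.hom ⁻¹ᵁ V) := ⟨u', hu'.mem_open (U.hom ⁻¹ᵁ V).2 (σ y).2⟩
    have hw : w' ⤳ σ y := (subtype_specializes_iff _ _).2 hu'
    have hwne : w' ≠ σ y := fun h => hne (Subtype.ext (by rw [← hσ y, ← h, ← hx]))
    obtain ⟨h1, h2⟩ := hW w' (σ y) hw hwne
    rw [hconst (σ x) w' (by rw [hσ]; exact hx.symm)]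
    refine ⟨h1, fun him => h2 fun z hz₁ hz₂ => ?_⟩
    have e₁ : u' ⤳ z.1 := (subtype_specializes_iff w' z).1 hz₁
    have e₂ : z.1 ⤳ (σ y).1 := (subtype_specializes_iff z (σ y)).1 hz₂
    rcases him (mkO z) ((subtype_specializes_iff _ _).2 (hx ▸ e₁.map (Points.continuous_ofPt a)))
        ((subtype_specializes_iff _ _).2 (hσ y ▸ e₂.map (Points.continuous_ofPt a))) with h | h
    · exact Or.inl (Subtype.ext (eq_of_specializes_of_isDecent hF ha
        ((congrArg Subtype.val h).trans hx.symm) e₁))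
    · exact Or.inr (Subtype.ext (eq_of_specializes_of_isDecent hF ha
        ((hσ y).trans (congrArg Subtype.val h).symm) e₂).symm)
  exact ⟨fun x y h hne => (key x y h hne).1, fun x y h => (key x y h.1 h.2.1).2 h.2.2⟩

end Groth.Agent.AlgSpDec2
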