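import Groth.Agent.AlgSpDec2.ElemSq
import Groth.Prelude.Def_AlgSpEt

/-!
# Induction along elementary distinguished squares
-/

set_option backward.isDefEq.respectTransparency false
set_option backward.isDefEq.respectTransparency.types false

universe u

open CategoryTheory CategoryTheory.Limits AlgebraicGeometry AlgSp Groth.Agent.AlgSpLib Groth.Agent.AlgSpPts
  Groth.Agent.AlgSpDec TopologicalSpace Topology Groth.Agent.AlgSpDec2.ElemChain

namespace Groth.Agent.AlgSpDec2.ElemInduction

variable {S : Scheme.{u}} {X : Space S}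

theorem openImm_isEtaleMor {A B : Sp S} {g : A ⟶ B} (hg : RepWith @IsOpenImmersion g) : IsEtaleMor g :=
  isEtaleMor_of_repWith_isOpenImmersion hg

/-- A space etale over an object, as an object. -/
noncomputable def sub (E : EtSpOver X) (Z : Space S) (g : Z ⟶ E.obj.left) (hg : IsEtaleMor g.hom) :
    EtSpOver X :=
  ⟨Over.mk (g ≫ E.obj.hom), isEtaleMor_comp Z.property E.obj.left.property X.property hg E.property⟩

noncomputable def subHom (E : EtSpOver X) (Z : Space S) (g : Z ⟶ E.obj.left) (hg : IsEtaleMor g.hom) :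
    sub E Z g hg ⟶ E :=
  ObjectProperty.homMk (Over.homMk g rfl)

theorem qc_pullback [QuasiSeparatedSpace ↥S] {V : Over S} [CompactSpace ↥V.left] {W₁ W₂ : Sp S}
    (hW₁ : IsAlgSpace W₁) (hW₂ : IsAlgSpace W₂) (hq : IsQuasiCompactSp W₁) (hs : IsQuasiSeparatedSp W₂)
    (k : W₁ ⟶ W₂) (f : (yon S).obj V ⟶ W₂) : IsQuasiCompactSp (pullback k f) := by
  haveI : CompactSpace (Points ((yon S).obj V)) := (Points.schemeHomeo _).compactSpace
  exact (isQuasiCompactMor_of_qc_qs (IsAlgSpace.yon_obj V) hW₂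
    ((isQuasiCompactSp_iff (IsAlgSpace.yon_obj V)).2 inferInstance) hs f) hW₁ hq k _ _
    (IsPullback.of_hasPullback k f).flip

/-- The general step: from the two smaller members to the bigger one. -/
theorem step [QuasiSeparatedSpace ↥S] {B P : EtSpOver X → Prop}
    (h4 : ∀ (W U V UV : AlgSp.EtSpOver X) (j : U ⟶ W) (f : V ⟶ W) (p : UV ⟶ U) (q : UV ⟶ V),
      B W → AlgSp.IsQuasiCompactSp U.obj.left.obj →
      (∃ T : Over S, IsAffine T.left ∧ Nonempty ((AlgSp.yon S).obj T ≅ V.obj.left.obj)) →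
      AlgSp.IsElemDistSq j.hom.left.hom f.hom.left.hom →
      IsPullback p.hom.left.hom q.hom.left.hom j.hom.left.hom f.hom.left.hom →
      P U → P V → P UV → P W)
    {E₁ E₂ : EtSpOver X} (k : E₁ ⟶ E₂) (hB₂ : B E₂) (hq₁ : IsQuasiCompactSp E₁.obj.left.obj) {V : Over S}
    [IsAffine V.left] (f : (yon S).obj V ⟶ E₂.obj.left.obj) (hf : RepWith @Etale f)
    (hsq : IsElemDistSq k.hom.left.hom f) (h₁ : P E₁)
    (hV : ∀ E : EtSpOver X, Nonempty ((yon S).obj V ≅ E.obj.left.obj) → P E)
    (hUV : ∀ (E : EtSpOver X) (e : E.obj.left.obj ⟶ (yon S).obj V), RepWith @IsOpenImmersion e →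
      e ≫ f ≫ E₂.obj.hom.hom = E.obj.hom.hom →
      Set.range (Points.map e) = Points.map f ⁻¹' Set.range (Points.map k.hom.left.hom) → P E) : P E₂ := by
  let Vs : Space S := ⟨(yon S).obj V, IsAlgSpace.yon_obj V⟩
  let fs : Vs ⟶ E₂.obj.left := ObjectProperty.homMk f
  have hfe : IsEtaleMor fs.hom := isEtaleMor_of_repWith hf
  let Pb : Space S :=
    ⟨pullback k.hom.left.hom f, isAlgSpace_pullback E₁.obj.left.property Vs.property E₂.obj.left.property _ _⟩
  let qs : Pb ⟶ Vs := ObjectProperty.homMk (pullback.snd k.hom.left.hom f)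
  have hqo : RepWith @IsOpenImmersion qs.hom := repWith_of_isPullback (IsPullback.of_hasPullback _ _) hsq.1
  let EV := sub E₂ Vs fs hfe
  let EP := sub EV Pb qs (openImm_isEtaleMor hqo)
  let ps : Pb ⟶ E₁.obj.left := ObjectProperty.homMk (pullback.fst k.hom.left.hom f)
  let p : EP ⟶ E₁ := ObjectProperty.homMk (Over.homMk ps (by
    rw [← Over.w k.hom]
    ext1
    show pullback.fst k.hom.left.hom f ≫ k.hom.left.hom ≫ E₂.obj.hom.hom =
      pullback.snd k.hom.left.hom f ≫ f ≫ E₂.obj.hom.hom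
    rw [← Category.assoc, pullback.condition, Category.assoc]))
  refine h4 E₂ E₁ EV EP k (subHom E₂ Vs fs hfe) p (subHom EV Pb qs (openImm_isEtaleMor hqo)) hB₂ hq₁
    ⟨V, inferInstance, ⟨Iso.refl _⟩⟩ hsq (IsPullback.of_hasPullback _ _) h₁ (hV EV ⟨Iso.refl _⟩)
    (hUV EP qs.hom hqo rfl ?_)
  ext y
  constructor
  · rintro ⟨z, rfl⟩
    exact ⟨Points.map ps.hom z, by
      rw [← Points.map_comp, ← Points.map_comp]; exact congrArg (Points.map · z) pullback.condition⟩
  · rintro ⟨x, hx⟩
    obtain ⟨z, -, hz⟩ := exists_point_of_isPullback (IsPullback.of_hasPullback k.hom.left.hom f) hx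
    exact ⟨z, hz⟩

/-- Members with a map by an open immersion to an affine member. -/
theorem of_open_in_affine [QuasiSeparatedSpace ↥S] {B P : EtSpOver X → Prop}
    (h2 : ∀ (W U : AlgSp.EtSpOver X) (j : U ⟶ W), B W → AlgSp.RepWith @IsOpenImmersion j.hom.left.hom →
      AlgSp.IsQuasiCompactSp U.obj.left.obj → B U)
    (h3 : ∀ (V : AlgSp.EtSpOver X) (T : Over S), IsAffine T.left →
      Nonempty ((AlgSp.yon S).obj T ≅ V.obj.left.obj) → B V ∧ P V)
    (h4 : ∀ (W U V UV : AlgSp.EtSpOver X) (j : U ⟶ W) (f : V ⟶ W) (p : UV ⟶ U) (q : UV ⟶ V),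
      B W → AlgSp.IsQuasiCompactSp U.obj.left.obj →
      (∃ T : Over S, IsAffine T.left ∧ Nonempty ((AlgSp.yon S).obj T ≅ V.obj.left.obj)) →
      AlgSp.IsElemDistSq j.hom.left.hom f.hom.left.hom →
      IsPullback p.hom.left.hom q.hom.left.hom j.hom.left.hom f.hom.left.hom →
      P U → P V → P UV → P W)
    {T : Over S} [IsAffine T.left] (e : (yon S).obj T ⟶ X.obj) (he : IsEtaleMor e) (E : EtSpOver X)
    (g : E.obj.left.obj ⟶ (yon S).obj T) (hg : RepWith @IsOpenImmersion g) (hge : g ≫ e = E.obj.hom.hom)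
    (hq : IsQuasiCompactSp E.obj.left.obj) : P E := by
  classical
  let Ts : Space S := ⟨(yon S).obj T, IsAlgSpace.yon_obj T⟩
  let ET : EtSpOver X := ⟨Over.mk (ObjectProperty.homMk e : Ts ⟶ X), he⟩
  let d : Γ(T.left, ⊤) → Set (Points ((yon S).obj T)) := fun r => Points.schemeHomeo T '' (T.left.basicOpen r)
  have hdo : ∀ r, IsOpen (d r) := fun r => (Points.schemeHomeo T).isOpenMap _ (T.left.basicOpen r).2
  have key : ∀ (n : ℕ) (s : Finset Γ(T.left, ⊤)), s.card ≤ n → ∀ (E : EtSpOver X) (g : E.obj.left.obj ⟶ (yon S).obj T),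
      RepWith @IsOpenImmersion g → g ≫ e = E.obj.hom.hom → Set.range (Points.map g) = ⋃ r ∈ s, d r → P E := by
    intro n
    induction n with
    | zero =>
      intro s hs E g hg _ hr
      rw [Nat.le_zero, Finset.card_eq_zero] at hs
      subst hs
      haveI : IsEmpty (Points E.obj.left.obj) := ⟨fun z => by
        have : Points.map g z ∈ Set.range (Points.map g) := ⟨z, rfl⟩
        rw [hr] at this
        simp at this⟩
      obtain ⟨T', hT', hi⟩ := exists_iso_of_isEmpty E.obj.left.property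
      exact (h3 E T' hT' hi).2
    | succ n ih =>
      intro s hs E₂ g₂ hg₂ hge₂ hr₂
      rcases s.eq_empty_or_nonempty with rfl | ⟨r, hr⟩
      · exact ih ∅ (by simp) E₂ g₂ hg₂ hge₂ hr₂
      have hcard : (s.erase r).card ≤ n := by
        rw [Finset.card_erase_of_mem hr]; omega
      let D : T.left.Opens := T.left.basicOpen r
      let ι : Over.mk (D.ι ≫ T.hom) ⟶ T := Over.homMk D.ι rfl
      haveI : IsAffine (Over.mk (D.ι ≫ T.hom)).left := (isAffineOpen_top T.left).basicOpen r
      haveI : IsOpenImmersion ι.left := inferInstanceAs (IsOpenImmersion D.ι)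
      haveI : Mono ι := Over.mono_of_mono_left ι
      have hιe : RepWith @Etale ((yon S).map ι) := (repWith_yon_map_iff _ ι).2 (inferInstanceAs (Etale D.ι))
      have hιr : Set.range (Points.ofPt ((yon S).map ι)) = d r := by
        ext y
        constructor
        · rintro ⟨v, rfl⟩
          exact ⟨D.ι v, (v : D.toScheme).2, by rw [Points.ofPt_eq_map_ofScheme]; exact (Points.map_yon_map_apply ι v).symm⟩
        · rintro ⟨v, hv, rfl⟩
          exact ⟨(⟨v, hv⟩ : D.toScheme), by rw [Points.ofPt_eq_map_ofScheme]; exact Points.map_yon_map_apply ι _⟩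
      have hsplit : (⋃ x ∈ s, d x) = (⋃ x ∈ s.erase r, d x) ∪ d r := by
        conv_lhs => rw [← Finset.insert_erase hr]
        rw [Finset.set_biUnion_insert, Set.union_comm]
      have hAo : IsOpen (⋃ x ∈ s.erase r, d x) := isOpen_biUnion fun x _ => hdo x
      obtain ⟨W₁, j₁, hW₁, hj₁, hr₁⟩ := exists_open_subspace (IsAlgSpace.yon_obj T) hAo
      let W₁s : Space S := ⟨W₁, hW₁⟩
      let E₁ : EtSpOver X := sub ET W₁s (ObjectProperty.homMk j₁) (openImm_isEtaleMor hj₁)
      obtain ⟨k', hk'⟩ := exists_lift_openImmersion hW₁ E₂.obj.left.property (IsAlgSpace.yon_obj T) hg₂ j₁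
        (by rw [hr₁, hr₂, hsplit]; exact Set.subset_union_left)
      let k : E₁ ⟶ E₂ := ObjectProperty.homMk (Over.homMk (ObjectProperty.homMk k') (by
        ext1
        show k' ≫ E₂.obj.hom.hom = j₁ ≫ e
        rw [← hge₂, reassoc_of% hk']))
      obtain ⟨f₂, hf₂, hf₂e, hsq⟩ := exists_sq (IsAlgSpace.yon_obj T) hιe (hsplit.trans (by rw [hιr]))
        (fun R p q _ _ h _ => (cancel_mono ι).1 ((yon S).map_injective
          (by rw [Functor.map_comp, Functor.map_comp]; exact h)))
        E₂.obj.left.property hj₁ hg₂ hr₁ hr₂ hk'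
      have hdc : ∀ x, IsCompact (d x) := fun x =>
        ((isAffineOpen_top T.left).basicOpen x).isCompact.image (Points.schemeHomeo T).continuous
      have hq₁ : IsQuasiCompactSp W₁ := isQuasiCompactSp_of_range (IsAlgSpace.yon_obj T) hW₁ hj₁
        (hr₁.symm ▸ (s.erase r).isCompact_biUnion fun x _ => hdc x)
      have hq₂ : IsQuasiCompactSp E₂.obj.left.obj :=
        isQuasiCompactSp_of_range (IsAlgSpace.yon_obj T) E₂.obj.left.property hg₂
          (hr₂.symm ▸ s.isCompact_biUnion fun x _ => hdc x)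
      have hB₂ : B E₂ := h2 ET E₂ (ObjectProperty.homMk (Over.homMk (ObjectProperty.homMk g₂) (by
        ext1; exact hge₂))) (h3 ET T inferInstance ⟨Iso.refl _⟩).1 hg₂ hq₂
      refine step h4 k hB₂ hq₁ f₂ hf₂e hsq (ih _ hcard E₁ j₁ hj₁ rfl hr₁)
        (fun E hi => (h3 E _ inferInstance hi).2) fun E e' he' hee' hre' => ?_
      refine ih ((s.erase r).image (· * r)) (Finset.card_image_le.trans hcard) E (e' ≫ (yon S).map ι)
        (repWith_comp he' ((repWith_yon_map_iff _ ι).2 (inferInstanceAs (IsOpenImmersion D.ι)))) ?_ ?_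
      · rw [← hee', ← hge₂, reassoc_of% hf₂, Category.assoc]
      · have hk₂ : Points.map g₂ '' Set.range (Points.map k') = ⋃ x ∈ s.erase r, d x := by
          rw [← hr₁, ← hk', ← Set.range_comp]
          exact congrArg Set.range (funext fun z => (Points.map_comp _ _ z).symm)
        rw [show Points.map (e' ≫ (yon S).map ι) = Points.map ((yon S).map ι) ∘ Points.map e' from
          funext (Points.map_comp _ _), Set.range_comp, hre', Finset.set_biUnion_finset_image]
        show Points.map ((yon S).map ι) '' (Points.map f₂ ⁻¹' Set.range (Points.map k')) = _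
        have himg : Points.map ((yon S).map ι) '' (Points.map f₂ ⁻¹' Set.range (Points.map k')) =
            (⋃ x ∈ s.erase r, d x) ∩ d r := by
          ext y
          constructor
          · rintro ⟨v, hv, rfl⟩
            refine ⟨?_, ?_⟩
            · rw [← hk₂, ← hf₂, Points.map_comp]
              exact ⟨_, hv, rfl⟩
            · obtain ⟨v', rfl⟩ := (Points.schemeHomeo _).surjective v
              exact ⟨D.ι v', (v' : D.toScheme).2, (Points.map_yon_map_apply ι v').symm⟩
          · rintro ⟨hy, v, hv, rfl⟩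
            refine ⟨Points.schemeHomeo _ (⟨v, hv⟩ : D.toScheme), ?_, Points.map_yon_map_apply ι _⟩
            rw [← hk₂] at hy
            obtain ⟨w, hw, hwy⟩ := hy
            rw [Set.mem_preimage]
            convert hw
            apply injective_openImm hg₂
            rw [hwy, ← Points.map_comp, hf₂]
            exact Points.map_yon_map_apply ι _
        rw [himg, Set.iUnion₂_inter]
        refine Set.iUnion₂_congr fun x _ => ?_
        show d x ∩ d r = d (x * r)
        simp only [d, Scheme.basicOpen_mul, Opens.coe_inf, Set.image_inter (Points.schemeHomeo T).injective]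
  -- the image of `g` is a finite union of basic opens
  have hc := isCompact_range_of_qc E.obj.left.property hq g
  have ho := (isOpenEmbedding_map' (IsAlgSpace.yon_obj T) hg).isOpen_range
  let I := {r : Γ(T.left, ⊤) // d r ⊆ Set.range (Points.map g)}
  have hcov : Set.range (Points.map g) ⊆ ⋃ r : I, d r.1 := fun y hy => by
    obtain ⟨v, rfl⟩ := (Points.schemeHomeo T).surjective y
    obtain ⟨r, hr, hvr⟩ := (isAffineOpen_top T.left).exists_basicOpen_le
      (V := ⟨Points.schemeHomeo T ⁻¹' Set.range (Points.map g), ho.preimage (Points.schemeHomeo T).continuous⟩)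
      ⟨v, hy⟩ trivial
    exact Set.mem_iUnion.2 ⟨⟨r, by rintro _ ⟨w, hw, rfl⟩; exact hr hw⟩, v, hvr, rfl⟩
  obtain ⟨t, ht⟩ := hc.elim_finite_subcover _ (fun r : I => hdo r.1) hcov
  refine key _ (t.image Subtype.val) le_rfl E g hg hge ?_
  rw [Finset.set_biUnion_finset_image]
  exact subset_antisymm ht (Set.iUnion₂_subset fun r _ => r.2)

/-- The induction principle. -/
theorem induction [QuasiSeparatedSpace ↥S] {B P : EtSpOver X → Prop}
    (h1 : ∀ W, B W → AlgSp.IsQuasiCompactSp W.obj.left.obj ∧ AlgSp.IsQuasiSeparatedSp W.obj.left.obj)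
    (h2 : ∀ (W U : AlgSp.EtSpOver X) (j : U ⟶ W), B W → AlgSp.RepWith @IsOpenImmersion j.hom.left.hom →
      AlgSp.IsQuasiCompactSp U.obj.left.obj → B U)
    (h3 : ∀ (V : AlgSp.EtSpOver X) (T : Over S), IsAffine T.left →
      Nonempty ((AlgSp.yon S).obj T ≅ V.obj.left.obj) → B V ∧ P V)
    (h4 : ∀ (W U V UV : AlgSp.EtSpOver X) (j : U ⟶ W) (f : V ⟶ W) (p : UV ⟶ U) (q : UV ⟶ V),
      B W → AlgSp.IsQuasiCompactSp U.obj.left.obj →
      (∃ T : Over S, IsAffine T.left ∧ Nonempty ((AlgSp.yon S).obj T ≅ V.obj.left.obj)) →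
      AlgSp.IsElemDistSq j.hom.left.hom f.hom.left.hom →
      IsPullback p.hom.left.hom q.hom.left.hom j.hom.left.hom f.hom.left.hom →
      P U → P V → P UV → P W)
    (W : EtSpOver X) (hW : B W) : P W := by
  obtain ⟨hWc, hWs⟩ := h1 W hW
  let Y := W.obj.left
  suffices h : ∀ A, Relation.ReflTransGen (Step Y.obj) ∅ A → IsOpen A ∧ IsCompact A ∧
      ∀ (E : EtSpOver X) (g : E ⟶ W), RepWith @IsOpenImmersion g.hom.left.hom →
        Set.range (Points.map g.hom.left.hom) = A → P E from
    (h _ (reach_univ Y.property hWc hWs isOpen_empty isCompact_empty)).2.2 W (𝟙 W)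
      (repWith_id_openImmersion Y.obj) (Set.range_eq_univ.2 fun x => ⟨x, Points.map_id _⟩)
  intro A hA
  induction hA with
  | refl =>
    refine ⟨isOpen_empty, isCompact_empty, fun E g hg hr => ?_⟩
    haveI : IsEmpty (Points E.obj.left.obj) := Set.range_eq_empty_iff.1 hr
    obtain ⟨T', hT', hi⟩ := exists_iso_of_isEmpty E.obj.left.property
    exact (h3 E T' hT' hi).2
  | tail hprev hstep ih =>
    rename_i A C
    obtain ⟨hAo, hAc, hAP⟩ := ih
    obtain ⟨hCo, hCc, hAC⟩ := step_compact hstep hAo hAc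
    refine ⟨hCo, hCc, fun E₂ g₂ hg₂ hr₂ => ?_⟩
    obtain ⟨V, f, hV, hf, hC, hinj⟩ := hstep
    haveI := hV
    obtain ⟨W₁, j₁, hW₁, hj₁, hr₁⟩ := exists_open_subspace Y.property hAo
    let E₁ := sub W ⟨W₁, hW₁⟩ (ObjectProperty.homMk j₁) (openImm_isEtaleMor hj₁)
    obtain ⟨k', hk'⟩ := exists_lift_openImmersion hW₁ E₂.obj.left.property Y.property hg₂ j₁
      (by rw [hr₁, hr₂]; exact hAC)
    let k : E₁ ⟶ E₂ := ObjectProperty.homMk (Over.homMk (ObjectProperty.homMk k') (by
      rw [← Over.w g₂.hom]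
      ext1
      show k' ≫ g₂.hom.left.hom ≫ W.obj.hom.hom = j₁ ≫ W.obj.hom.hom
      rw [reassoc_of% hk']))
    obtain ⟨f₂, -, hf₂e, hsq⟩ := exists_sq Y.property hf hC hinj E₂.obj.left.property hj₁ hg₂ hr₁ hr₂ hk'
    have hq₁ : IsQuasiCompactSp W₁ := isQuasiCompactSp_of_range Y.property hW₁ hj₁ (hr₁.symm ▸ hAc)
    have hq₂ : IsQuasiCompactSp E₂.obj.left.obj :=
      isQuasiCompactSp_of_range Y.property E₂.obj.left.property hg₂ (hr₂.symm ▸ hCc)
    have hB₂ : B E₂ := h2 W E₂ g₂ hW hg₂ hq₂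
    refine step h4 k hB₂ hq₁ f₂ hf₂e hsq (hAP E₁ (subHom _ _ _ _) hj₁ hr₁)
      (fun E hi => (h3 E _ hV hi).2) fun E e' he' hee' hre' => ?_
    have hef : IsEtaleMor (f₂ ≫ E₂.obj.hom.hom) :=
      isEtaleMor_comp (IsAlgSpace.yon_obj V) E₂.obj.left.property X.property (isEtaleMor_of_repWith hf₂e) E₂.property
    refine of_open_in_affine h2 h3 h4 _ hef E e' he' hee' ?_
    refine isQuasiCompactSp_of_range (IsAlgSpace.yon_obj V) E.obj.left.property he' ?_
    rw [hre']
    have hqp := qc_pullback hW₁ E₂.obj.left.property hq₁ (h1 E₂ hB₂).2 k' f₂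
    have := isCompact_range_of_qc (isAlgSpace_pullback hW₁ (IsAlgSpace.yon_obj V) E₂.obj.left.property _ _) hqp
      (pullback.snd k' f₂)
    convert this using 1
    ext y
    constructor
    · rintro ⟨x, hx⟩
      obtain ⟨z, -, hz⟩ := exists_point_of_isPullback (IsPullback.of_hasPullback k' f₂) hx
      exact ⟨z, hz⟩
    · rintro ⟨z, rfl⟩
      exact ⟨Points.map (pullback.fst k' f₂) z, by
        rw [← Points.map_comp, ← Points.map_comp]; exact congrArg (Points.map · z) pullback.condition⟩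

end Groth.Agent.AlgSpDec2.ElemInduction
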