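import Groth.Agent.AlgSpDec2.ElemChain
import Groth.Agent.AlgSpLib.LargestOpen
import Groth.Agent.AlgSpDec.LqfScheme
import Groth.Agent.AlgSpPts.OpenSub
import Groth.Agent.AlgSpLib.EtaleSmoothLocal
import Groth.Prelude.Def_AlgSpSub

/-!
# Elementary distinguished squares from the steps of a chain
-/

set_option backward.isDefEq.respectTransparency false
set_option backward.isDefEq.respectTransparency.types false

universe u

open CategoryTheory CategoryTheory.Limits AlgebraicGeometry AlgSp Groth.Agent.AlgSpLib Groth.Agent.AlgSpPts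
  Groth.Agent.AlgSpDec TopologicalSpace Topology

namespace Groth.Agent.AlgSpDec2.ElemChain

variable {S : Scheme.{u}} {X : Sp S} {V : Over S}

theorem inj_lift {W : Sp S} {j : W ⟶ X} {f : (yon S).obj V ⟶ X} {f₂ : (yon S).obj V ⟶ W} (h : f₂ ≫ j = f)
    {A : Set (Points X)} (hA : Inj f A) : Inj f₂ (Points.map j ⁻¹' A) := fun T p q hT hs hpq hm =>
  hA T p q hT hs (by rw [← h, reassoc_of% hpq]) fun t => by
    rw [← h, ← Points.map_ofPt]
    exact hm t

theorem injective_openImm {W : Sp S} {j : W ⟶ X} (hj : RepWith @IsOpenImmersion j) :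
    Function.Injective (Points.map j) :=
  injective_map ⟨hj.rep, fun _ _ g fst snd sq => by
    have : IsOpenImmersion snd.left := hj.property g fst snd sq
    exact snd.left.isOpenEmbedding.injective⟩

theorem repWith_openImm_of_comp {W₁ W₂ : Sp S} {j₂ : W₂ ⟶ X} (hj₂ : RepWith @IsOpenImmersion j₂)
    {k : W₁ ⟶ W₂} (h : RepWith @IsOpenImmersion (k ≫ j₂)) : RepWith @IsOpenImmersion k := by
  haveI : Mono j₂ := mono_of_openImmersion hj₂
  haveI := isIso_diagonal_of_mono j₂
  exact Groth.Agent.AlgSpLib.of_comp_of_diagonal (RepWith @IsOpenImmersion) k j₂ h (repWith_of_isIso _ _)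

/-- A step gives an elementary distinguished square on the open subspaces. -/
theorem exists_sq (hX : IsAlgSpace X) {f : (yon S).obj V ⟶ X} (hf : RepWith @Etale f) {A B : Set (Points X)}
    (hB : B = A ∪ Set.range (Points.ofPt f)) (hinj : Inj f (B \ A)) {W₁ W₂ : Sp S}
    (hW₂ : IsAlgSpace W₂) {j₁ : W₁ ⟶ X} {j₂ : W₂ ⟶ X} (hj₁ : RepWith @IsOpenImmersion j₁)
    (hj₂ : RepWith @IsOpenImmersion j₂) (hr₁ : Set.range (Points.map j₁) = A) (hr₂ : Set.range (Points.map j₂) = B)
    {k : W₁ ⟶ W₂} (hk : k ≫ j₂ = j₁) :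
    ∃ f₂ : (yon S).obj V ⟶ W₂, f₂ ≫ j₂ = f ∧ RepWith @Etale f₂ ∧ IsElemDistSq k f₂ := by
  obtain ⟨f₂, hf₂⟩ := exists_factor_open hj₂ f fun v => by
    rw [hr₂, hB]; exact Or.inr ⟨v, rfl⟩
  haveI : Mono j₂ := mono_of_openImmersion hj₂
  haveI := isIso_diagonal_of_mono j₂
  have hf₂e : RepWith @Etale f₂ := repWith_of_postcomp (repWith_of_isIso _ _) (by rw [hf₂]; exact hf)
  have hko : RepWith @IsOpenImmersion k := repWith_openImm_of_comp hj₂ (hk ▸ hj₁)
  have hrk : Set.range (Points.map k) = Points.map j₂ ⁻¹' A := by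
    ext w
    constructor
    · rintro ⟨z, rfl⟩
      rw [Set.mem_preimage, ← Points.map_comp, hk, ← hr₁]
      exact Set.mem_range_self _
    · intro hw
      rw [Set.mem_preimage, ← hr₁] at hw
      obtain ⟨z, hz⟩ := hw
      exact ⟨z, injective_openImm hj₂ (by rw [← Points.map_comp, hk, hz])⟩
  have hcl : IsClosed (Set.range (Points.map k))ᶜ :=
    (isOpenEmbedding_map' hW₂ hko).isOpen_range.isClosed_compl
  obtain ⟨T, i, hi⟩ := exists_reduced_induced hW₂ hcl
  refine ⟨f₂, hf₂, hf₂e, hko, isEtaleMor_of_repWith hf₂e, T.obj, pullback i f₂, i, pullback.fst i f₂,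
    pullback.snd i f₂, hi, IsPullback.of_hasPullback i f₂, ?_⟩
  have hT : Set.range (Points.map i) = Points.map j₂ ⁻¹' (B \ A) := by
    rw [hi.2.1, hrk]
    ext w
    simp only [Set.mem_compl_iff, Set.mem_preimage, Set.mem_sdiff]
    exact ⟨fun h => ⟨hr₂.le ⟨w, rfl⟩, h⟩, fun h => h.2⟩
  refine isIso_fst hW₂ hf₂e (inj_lift hf₂ hinj) T.property i hT.le ?_ (IsPullback.of_hasPullback i f₂)
  rw [hT]
  rintro w ⟨hw, hw'⟩
  rw [hB] at hw
  rcases hw with hw | ⟨v, hv⟩
  · exact absurd hw hw'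
  · exact ⟨v, injective_openImm hj₂ (by rw [Points.map_ofPt, hf₂, hv])⟩

/-- The trivial step with an empty chart. -/
theorem step_refl (hX : IsAlgSpace X) (A : Set (Points X)) : Step X A A := by
  obtain ⟨U, a, ha, -⟩ := hX.atlas
  let ι : Over.mk ((⊥ : U.left.Opens).ι ≫ U.hom) ⟶ U := Over.homMk (⊥ : U.left.Opens).ι rfl
  haveI : IsEmpty ↥(Over.mk ((⊥ : U.left.Opens).ι ≫ U.hom)).left :=
    ⟨fun x => (x : ↥(⊥ : U.left.Opens)).2⟩
  have hr : Set.range (Points.ofPt ((yon S).map ι ≫ a)) = ∅ := Set.range_eq_empty _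
  refine ⟨_, (yon S).map ι ≫ a, inferInstance, repWith_comp
    ((repWith_yon_map_iff _ ι).2 (inferInstanceAs (Etale (⊥ : U.left.Opens).ι))) ha, by rw [hr, Set.union_empty], ?_⟩
  intro T p q _ _ _ _
  haveI : IsEmpty ↥T.left := Function.isEmpty p.left
  exact Over.OverMorphism.ext ((isInitialOfIsEmpty (X := T.left)).hom_ext _ _)

/-- A space without points is an affine scheme. -/
theorem exists_iso_of_isEmpty (hX : IsAlgSpace X) [IsEmpty (Points X)] :
    ∃ T : Over S, IsAffine T.left ∧ Nonempty ((yon S).obj T ≅ X) := by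
  obtain ⟨U, a, ha, has⟩ := hX.atlas
  haveI : IsEmpty ↥U.left := Function.isEmpty (Points.ofPt a)
  haveI : Mono a := mono_of_yon_injective fun T p q _ => by
    obtain ⟨p', rfl⟩ := (yon S).map_surjective p
    obtain ⟨q', rfl⟩ := (yon S).map_surjective q
    haveI : IsEmpty ↥T.left := Function.isEmpty p'.left
    congr 1
    exact Over.OverMorphism.ext ((isInitialOfIsEmpty (X := T.left)).hom_ext _ _)
  haveI : Epi a := epi_of_etale_surjective ha has
  haveI := isIso_of_mono_of_epi a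
  exact ⟨U, inferInstance, ⟨asIso a⟩⟩

theorem isQuasiCompactSp_of_range {W : Sp S} (hX : IsAlgSpace X) (hW : IsAlgSpace W) {j : W ⟶ X}
    (hj : RepWith @IsOpenImmersion j) (h : IsCompact (Set.range (Points.map j))) : IsQuasiCompactSp W := by
  refine (isQuasiCompactSp_iff hW).2 ⟨?_⟩
  rw [(isOpenEmbedding_map' hX hj).isEmbedding.isCompact_iff, Set.image_univ]
  exact h

theorem isCompact_range_of_qc {W : Sp S} (hW : IsAlgSpace W) (hq : IsQuasiCompactSp W) (j : W ⟶ X) :
    IsCompact (Set.range (Points.map j)) :=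
  haveI := (isQuasiCompactSp_iff hW).1 hq
  isCompact_range (Points.continuous_map j)

end Groth.Agent.AlgSpDec2.ElemChain
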