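import Groth.Agent.AlgSpDec.RelDimSp
import Groth.Agent.FibDim.BaseField
import Groth.Agent.FibDim.Basic

/-!
# The dimension of the fibre over a field point
-/

set_option backward.isDefEq.respectTransparency false
set_option backward.isDefEq.respectTransparency.types false

universe u

open CategoryTheory CategoryTheory.Limits AlgebraicGeometry AlgSp Groth.Agent.AlgSpLib Groth.Agent.AlgSpPts IsLocalRing

namespace Groth.Agent.AlgSpDec2

/-- Over a one-point scheme the dimension is the supremum of the local fibre dimensions. -/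
theorem topologicalKrullDim_le_iff_fibreDimAt {X Y : Scheme.{u}} (f : X ⟶ Y) [LocallyOfFiniteType f]
    [Subsingleton ↥Y] (d : WithBot ℕ∞) :
    topologicalKrullDim ↥X ≤ d ↔ ∀ x : X, FlatMor.fibreDimAt f x ≤ d := by
  rw [FibDim.topologicalKrullDim_eq_iSup_rd f, iSup_le_iff]
  refine ⟨fun h x => ?_, fun h x => (FibDim.fibreDimAt_ge_rd f specializes_rfl).trans (h x)⟩
  obtain ⟨z, -, -, -, he⟩ := FibDim.exists_fibMax_generization f x
  exact he ▸ h z

variable {S : Scheme.{u}} {X Y Xk : Sp S}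

/-- Fibre dimension computed on charts of the fibre. -/
theorem dim_fibre_le_iff (hX : IsAlgSpace X) (hY : IsAlgSpace Y) {f : X ⟶ Y}
    (hf : LocP @LocallyOfFiniteType f) (k : FieldPt Y) {fst : Xk ⟶ X} {snd : Xk ⟶ (yon S).obj k.pt}
    (sq : IsPullback fst snd f k.toHom) (d : WithBot ℕ∞) :
    AlgSp.dim Xk ≤ d ↔ ∀ x : Points X, Points.map f x = Points.mk k →
      HasAtMor (fun _ _ h u => FlatMor.fibreDimAt h u ≤ d) f x := by
  have hXk : IsAlgSpace Xk := isAlgSpace_of_isPullback sq hX (IsAlgSpace.yon_obj _) hY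
  have hsnd : LocP @LocallyOfFiniteType snd := locP_of_isPullback sq hX hY (IsAlgSpace.yon_obj _) hf
  haveI : Subsingleton ↥k.pt.left := inferInstanceAs (Subsingleton (PrimeSpectrum k.K))
  have key : ∀ (U : Over S) (a : (yon S).obj U ⟶ Xk) (c : U ⟶ k.pt), RepWith @Etale a → (yon S).map c = a ≫ snd →
      LocallyOfFiniteType c.left ∧ ∀ (u : ↥U.left) (U₀ V₀ : Over S) (a₀ : (yon S).obj U₀ ⟶ X) (b₀ : (yon S).obj V₀ ⟶ Y) (h₀ : U₀ ⟶ V₀) (u₀ : ↥U₀.left),
        RepWith @Etale a₀ → RepWith @Etale b₀ → a₀ ≫ f = (yon S).map h₀ ≫ b₀ →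
        Points.ofPt a₀ u₀ = Points.map fst (Points.ofPt a u) →
        FlatMor.fibreDimAt c.left u = FlatMor.fibreDimAt h₀.left u₀ := by
    intro U a c ha hc
    have hc' : a ≫ snd = (yon S).map c ≫ 𝟙 _ := by rw [Category.comp_id, hc]
    refine ⟨hsnd a (𝟙 _) c ha (repWith_id _ k.pt) hc', fun u U₀ V₀ a₀ b₀ h₀ u₀ ha₀ hb₀ w₀ hx => ?_⟩
    obtain ⟨U₁, V₁, a₁, b₁, h₁, u₁, ha₁, hb₁, w₁, hx₁, he₁⟩ :=
      AlgSpDec.RelDimSp.baseChange sq hX hY (IsAlgSpace.yon_obj _) hf (Points.ofPt a u) _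
        ⟨U₀, V₀, a₀, b₀, h₀, u₀, ha₀, hb₀, w₀, hx, rfl⟩
    rw [← he₁]
    exact AlgSpDec.RelDimSp.fibreDimAt_congr hsnd ha (repWith_id _ _) hc' ha₁ hb₁ w₁ hx₁.symm
  constructor
  · intro hd x hx
    obtain ⟨x', hx', -⟩ := exists_point_of_isPullback sq (x := x) (y := Points.ofScheme k.pt (closedPoint k.K))
      (by rw [hx, ← Points.ofPt_toHom k, Points.ofPt_eq_map_ofScheme])
    obtain ⟨U, a, ha, has⟩ := hXk.atlas
    obtain ⟨u, rfl⟩ := surjective_ofPt has x'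
    obtain ⟨c, hc⟩ := (yon S).map_surjective (a ≫ snd)
    obtain ⟨U₀, V₀, a₀, b₀, h₀, ha₀, ha₀', hb₀, -, w₀⟩ := exists_chart hX hY f
    obtain ⟨u₀, hu₀⟩ := surjective_ofPt ha₀' x
    refine ⟨U₀, V₀, a₀, b₀, h₀, u₀, ha₀, hb₀, w₀, hu₀, ?_⟩
    obtain ⟨_, hk⟩ := key U a c ha hc
    rw [← hk u U₀ V₀ a₀ b₀ h₀ u₀ ha₀ hb₀ w₀ (hu₀.trans hx'.symm)]
    exact (topologicalKrullDim_le_iff_fibreDimAt c.left d).1
      ((le_trans (le_iSup (fun _ : RepWith @Etale a => topologicalKrullDim ↥U.left) ha)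
        (le_iSup₂ (f := fun (U : Over S) (a : (yon S).obj U ⟶ Xk) => ⨆ (_ : RepWith @Etale a), topologicalKrullDim ↥U.left) U a)).trans hd) u
  · intro H
    refine iSup₂_le fun U a => iSup_le fun ha => ?_
    obtain ⟨c, hc⟩ := (yon S).map_surjective (a ≫ snd)
    obtain ⟨_, hk⟩ := key U a c ha hc
    refine (topologicalKrullDim_le_iff_fibreDimAt c.left d).2 fun u => ?_
    have hy : Points.map f (Points.map fst (Points.ofPt a u)) = Points.mk k := by
      rw [← Points.map_comp, sq.w, Points.map_comp, Points.map_ofPt, ← hc, ← Points.ofPt_toHom k (closedPoint k.K),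
        Points.map_ofPt, ofPt_comp, Subsingleton.elim (c.left u) (closedPoint k.K : ↥k.pt.left)]
    obtain ⟨U₀, V₀, a₀, b₀, h₀, u₀, ha₀, hb₀, w₀, hx, hle⟩ := H _ hy
    rw [hk u U₀ V₀ a₀ b₀ h₀ u₀ ha₀ hb₀ w₀ hx]
    exact hle

/-- The fibre dimension is bottom exactly off the image. -/
theorem dim_fibre_eq_bot_iff (hX : IsAlgSpace X) (hY : IsAlgSpace Y) {f : X ⟶ Y} (k : FieldPt Y)
    {fst : Xk ⟶ X} {snd : Xk ⟶ (yon S).obj k.pt}
    (sq : IsPullback fst snd f k.toHom) :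
    AlgSp.dim Xk = ⊥ ↔ Points.mk k ∉ Set.range (Points.map f) := by
  have hXk : IsAlgSpace Xk := isAlgSpace_of_isPullback sq hX (IsAlgSpace.yon_obj _) hY
  haveI : Subsingleton ↥k.pt.left := inferInstanceAs (Subsingleton (PrimeSpectrum k.K))
  constructor
  · rintro hd ⟨x, hx⟩
    obtain ⟨x', -, -⟩ := exists_point_of_isPullback sq (x := x) (y := Points.ofScheme k.pt (closedPoint k.K))
      (by rw [hx, ← Points.ofPt_toHom k, Points.ofPt_eq_map_ofScheme])
    obtain ⟨U, a, ha, has⟩ := hXk.atlas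
    obtain ⟨u, -⟩ := surjective_ofPt has x'
    exact WithBot.coe_ne_bot (le_bot_iff.1 ((coheight_le_dim ha u).trans hd.le))
  · intro hy
    refine le_bot_iff.1 (iSup₂_le fun U a => iSup_le fun ha => ?_)
    haveI : IsEmpty ↥U.left := ⟨fun u => hy ⟨Points.map fst (Points.ofPt a u), by
      obtain ⟨c, hc⟩ := (yon S).map_surjective (a ≫ snd)
      rw [← Points.map_comp, sq.w, Points.map_comp, Points.map_ofPt, ← hc, ← Points.ofPt_toHom k (closedPoint k.K),
        Points.map_ofPt, ofPt_comp, Subsingleton.elim (c.left u) (closedPoint k.K : ↥k.pt.left)]⟩⟩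
    rw [topologicalKrullDim_eq_krullDim, Order.krullDim_eq_bot]

end Groth.Agent.AlgSpDec2
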