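import Groth.Agent.AlgSpDec2.FibreDim
import Groth.Agent.AlgSpPts.Misc
import Groth.Agent.S0404

/-!
# Semicontinuity of the fibre dimension
-/

set_option backward.isDefEq.respectTransparency false
set_option backward.isDefEq.respectTransparency.types false

universe u

open CategoryTheory CategoryTheory.Limits AlgebraicGeometry AlgSp Groth.Agent.AlgSpLib Groth.Agent.AlgSpPts IsLocalRing

namespace Groth.Agent.AlgSpDec2

variable {S : Scheme.{u}} {X Y : Sp S}

theorem le_natCast_trans {c : WithBot ℕ∞} (h : c < ⊤) : c = ⊥ ∨ ∃ n : ℕ, c = n := by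
  induction c using WithBot.recBotCoe with
  | bot => exact Or.inl rfl
  | coe e =>
    induction e using ENat.recTopCoe with
    | top => exact absurd h (lt_irrefl _)
    | coe n => exact Or.inr ⟨n, rfl⟩

/-- Lower semicontinuity for flat morphisms locally of finite presentation. -/
theorem isOpen_lt_dim_fibre (hX : IsAlgSpace X) (hY : IsAlgSpace Y) {f : X ⟶ Y} (hf1 : LocP @Flat f)
    (hf2 : LocP @LocallyOfFinitePresentation f) (hf3 : LocP @LocallyOfFiniteType f) (d : WithBot ℕ∞) :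
    IsOpen {y : Points Y | ∀ k : FieldPt Y, Points.mk k = y →
      ∀ (Xk : Sp S) (fst : Xk ⟶ X) (snd : Xk ⟶ (yon S).obj k.pt),
        IsPullback fst snd f k.toHom → d < AlgSp.dim Xk} := by
  rw [isOpen_iff_forall_mem_open]
  intro y hy
  induction y using Points.ind with | h k => ?_
  have hk := hy k rfl _ _ _ (IsPullback.of_hasPullback f k.toHom)
  rw [← not_le, dim_fibre_le_iff hX hY hf3 k (IsPullback.of_hasPullback f k.toHom) d] at hk
  push Not at hk
  obtain ⟨x, hxy, hx⟩ := hk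
  obtain ⟨U₀, V₀, a₀, b₀, h₀, ha₀, ha₀', hb₀, -, w₀⟩ := exists_chart hX hY f
  obtain ⟨u₀, rfl⟩ := surjective_ofPt ha₀' x
  obtain ⟨O, hO, hvO, -⟩ := exists_isAffineOpen_mem_and_subset (U := (⊤ : V₀.left.Opens)) (x := h₀.left u₀) trivial
  obtain ⟨W, hW, huW, hWO⟩ := exists_isAffineOpen_mem_and_subset (U := h₀.left ⁻¹ᵁ O) (x := u₀) hvO
  let U : Over S := Over.mk (W.ι ≫ U₀.hom)
  let V : Over S := Over.mk (O.ι ≫ V₀.hom)
  let iU : U ⟶ U₀ := CategoryTheory.Over.homMk W.ι rfl
  let iV : V ⟶ V₀ := CategoryTheory.Over.homMk O.ι rfl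
  have hr : Set.range (W.ι ≫ h₀.left) ⊆ Set.range O.ι := by
    rintro _ ⟨z, rfl⟩
    rw [Scheme.Opens.range_ι]
    exact hWO z.2
  let h : U ⟶ V := CategoryTheory.Over.homMk (IsOpenImmersion.lift O.ι (W.ι ≫ h₀.left) hr) (by
    change IsOpenImmersion.lift O.ι _ hr ≫ O.ι ≫ V₀.hom = W.ι ≫ U₀.hom
    rw [IsOpenImmersion.lift_fac_assoc, Category.assoc, Over.w h₀])
  let a := (yon S).map iU ≫ a₀
  let b := (yon S).map iV ≫ b₀
  have ha : RepWith @Etale a := repWith_comp ((repWith_yon_map_iff _ _).2 (inferInstanceAs (Etale W.ι))) ha₀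
  have hb : RepWith @Etale b := repWith_comp ((repWith_yon_map_iff _ _).2 (inferInstanceAs (Etale O.ι))) hb₀
  have e : iU ≫ h₀ = h ≫ iV := Over.OverMorphism.ext (IsOpenImmersion.lift_fac _ _ _).symm
  have w : a ≫ f = (yon S).map h ≫ b := by
    rw [Category.assoc, w₀, ← Functor.map_comp_assoc, ← Functor.map_comp_assoc, e]
  let u : ↥U.left := ⟨u₀, huW⟩
  have hu : Points.ofPt a u = Points.ofPt a₀ u₀ := ofPt_comp iU a₀ u
  haveI : IsAffine U.left := hW
  haveI : IsAffine V.left := hO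
  haveI : Flat h.left := hf1 a b h ha hb w
  haveI : LocallyOfFinitePresentation h.left := hf2 a b h ha hb w
  have hlt : d < FlatMor.fibreDimAt h.left u := by
    rw [← not_le]
    exact fun hle => hx ⟨U, V, a, b, h, u, ha, hb, w, hu, hle⟩
  have hval : ∀ u', FlatMor.fibreDimAt h.left u' ≤ topologicalKrullDim ↥(h.left.fiber (h.left u')) := fun u' => by
    obtain ⟨z, -, hz, -, he⟩ := FibDim.exists_fibMax_generization h.left u'
    rw [he, FibDim.topologicalKrullDim_fiber]
    exact le_iSup (fun z : ↥(h.left ⁻¹' {h.left u'}) => ((FibDim.rd h.left z.1 : ℕ∞) : WithBot ℕ∞)) ⟨z, hz⟩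
  let G : Set ↥V.left := {v | d < topologicalKrullDim ↥(h.left.fiber v)}
  refine ⟨Points.ofPt b '' G, ?_, isOpenMap_ofPt hb _ (Groth.Agent.S0404.result h.left d),
    h.left u, hlt.trans_le (hval u), ?_⟩
  · rintro _ ⟨v, hv, rfl⟩ k' hk' Xk' fst snd sq
    rw [← not_le, dim_fibre_le_iff hX hY hf3 k' sq d]
    intro H
    refine (not_le.2 (show d < topologicalKrullDim ↥(h.left.fiber v) from hv)) ?_
    rw [FibDim.topologicalKrullDim_fiber]
    refine iSup_le fun z => (FibDim.fibreDimAt_ge_rd h.left specializes_rfl).trans ?_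
    obtain ⟨U', V', a', b', h', u', ha', hb', w', hx', hle⟩ := H (Points.ofPt a z.1) (by
      rw [hk', Points.map_ofPt, w, ofPt_comp, show h.left z.1 = v from z.2])
    rw [AlgSpDec.RelDimSp.fibreDimAt_congr hf3 ha hb w ha' hb' w' hx'.symm]
    exact hle
  · rw [← hxy, ← hu, Points.map_ofPt, w]; exact (ofPt_comp h b u).symm

/-- Upper semicontinuity for universally closed morphisms, finite bounds. -/
theorem isOpen_dim_fibre_le (hX : IsAlgSpace X) (hY : IsAlgSpace Y) {f : X ⟶ Y}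
    (hf3 : LocP @LocallyOfFiniteType f) (hc : IsUnivClosedMor f) (n : ℕ) :
    IsOpen {y : Points Y | ∀ k : FieldPt Y, Points.mk k = y →
      ∀ (Xk : Sp S) (fst : Xk ⟶ X) (snd : Xk ⟶ (yon S).obj k.pt),
        IsPullback fst snd f k.toHom → AlgSp.dim Xk ≤ (n : WithBot ℕ∞)} := by
  have hcl : IsClosedMap (Points.map f) := hc hY (𝟙 Y) (𝟙 X) f (IsPullback.of_horiz_isIso ⟨by simp⟩)
  convert (hcl _ (AlgSpDec.RelDimSp.isOpen_le hf3 n).isClosed_compl).isOpen_compl using 1
  ext y
  constructor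
  · rintro hy ⟨x, hx, rfl⟩
    induction hk : Points.map f x using Points.ind with | h k => ?_
    exact hx ((dim_fibre_le_iff hX hY hf3 k (IsPullback.of_hasPullback f k.toHom) _).1
      (hy k hk.symm _ _ _ (IsPullback.of_hasPullback f k.toHom)) x hk)
  · intro hy k hk Xk fst snd sq
    refine (dim_fibre_le_iff hX hY hf3 k sq _).2 fun x hx => ?_
    by_contra hn
    exact hy ⟨x, hn, hx.trans hk⟩

/-- The fibre dimension is bottom on an open set, for universally closed morphisms. -/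
theorem isOpen_dim_fibre_eq_bot (hX : IsAlgSpace X) (hY : IsAlgSpace Y) {f : X ⟶ Y}
    (hc : IsUnivClosedMor f) :
    IsOpen {y : Points Y | ∀ k : FieldPt Y, Points.mk k = y →
      ∀ (Xk : Sp S) (fst : Xk ⟶ X) (snd : Xk ⟶ (yon S).obj k.pt),
        IsPullback fst snd f k.toHom → AlgSp.dim Xk = ⊥} := by
  have hcl : IsClosedMap (Points.map f) := hc hY (𝟙 Y) (𝟙 X) f (IsPullback.of_horiz_isIso ⟨by simp⟩)
  convert hcl.isClosed_range.isOpen_compl using 1
  ext y
  constructor
  · intro hy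
    induction y using Points.ind with | h k => ?_
    exact (dim_fibre_eq_bot_iff hX hY k (IsPullback.of_hasPullback f k.toHom)).1
      (hy k rfl _ _ _ (IsPullback.of_hasPullback f k.toHom))
  · intro hy k hk Xk fst snd sq
    exact (dim_fibre_eq_bot_iff hX hY k sq).2 (by rw [hk]; exact hy)

/-- The fibres of a quasi-compact morphism locally of finite type have finite dimension. -/
theorem dim_fibre_lt_top (hX : IsAlgSpace X) (hY : IsAlgSpace Y) {f : X ⟶ Y}
    (hf3 : LocP @LocallyOfFiniteType f) (hq : IsQuasiCompactMor f) (k : FieldPt Y)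
    {Xk : Sp S} {fst : Xk ⟶ X} {snd : Xk ⟶ (yon S).obj k.pt} (sq : IsPullback fst snd f k.toHom) :
    ∃ n : ℕ, AlgSp.dim Xk ≤ (n : WithBot ℕ∞) := by
  haveI : IsAffine k.pt.left := inferInstanceAs (IsAffine (Spec (CommRingCat.of k.K)))
  have hXk : IsAlgSpace Xk := isAlgSpace_of_isPullback sq hX (IsAlgSpace.yon_obj _) hY
  haveI : CompactSpace (Points Xk) := (isQuasiCompactSp_iff hXk).1
    (hq (IsAlgSpace.yon_obj _) ⟨_, 𝟙 _, repWith_id _ _, repWith_id _ _, inferInstance⟩ _ _ _ sq)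
  have hmono : Monotone fun n : ℕ => {x : Points X |
      HasAtMor (fun _ _ h u => FlatMor.fibreDimAt h u ≤ (n : WithBot ℕ∞)) f x} := by
    rintro m n hmn x ⟨U, V, a, b, h, u, ha, hb, w, hx, hu⟩
    exact ⟨U, V, a, b, h, u, ha, hb, w, hx, hu.trans (by exact_mod_cast hmn)⟩
  have hcov : Set.range (Points.map fst) ⊆ ⋃ n : ℕ, {x : Points X |
      HasAtMor (fun _ _ h u => FlatMor.fibreDimAt h u ≤ (n : WithBot ℕ∞)) f x} := by
    intro x _
    obtain ⟨U, V, a, b, h, ha, ha', hb, -, w⟩ := exists_chart hX hY f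
    obtain ⟨u, rfl⟩ := surjective_ofPt ha' x
    haveI : LocallyOfFiniteType h.left := hf3 a b h ha hb w
    obtain ⟨z, -, -, -, he⟩ := FibDim.exists_fibMax_generization h.left u
    exact Set.mem_iUnion.2 ⟨FibDim.rd h.left z, U, V, a, b, h, u, ha, hb, w, rfl, by simp only; rw [he]; rfl⟩

  obtain ⟨n, hn⟩ := (isCompact_range (Points.continuous_map fst)).elim_directed_cover _
    (fun n => AlgSpDec.RelDimSp.isOpen_le hf3 n) hcov hmono.directed_le
  refine ⟨n, (dim_fibre_le_iff hX hY hf3 k sq _).2 fun x hx => hn ?_⟩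
  obtain ⟨z, hz, -⟩ := exists_point_of_isPullback sq (x := x) (y := Points.ofScheme k.pt (closedPoint k.K))
      (by rw [hx, ← Points.ofPt_toHom k, Points.ofPt_eq_map_ofScheme])
  exact ⟨z, hz⟩

end Groth.Agent.AlgSpDec2
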