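import Groth.Agent.AlgSpDec.FieldFibre
import Groth.Agent.AlgSpDec.FiniteCrit
import Groth.Agent.AlgSpDec.FibreCodim
import Groth.Agent.AlgSpDec.PointFibre
import Groth.Agent.AlgSpDec.DecentMor
import Groth.Agent.AlgSpDec.More
import Groth.Agent.AlgSpDec.Basic
import Groth.Agent.AlgSpDec.Fibres
import Groth.Agent.AlgSpDec2.FibreDim
import Groth.Agent.S9798

/-!
# The topology of the fibre over a field point
-/

set_option backward.isDefEq.respectTransparency false
set_option backward.isDefEq.respectTransparency.types false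

universe u

open CategoryTheory CategoryTheory.Limits AlgebraicGeometry AlgSp Groth.Agent.AlgSpLib Groth.Agent.AlgSpPts
  Groth.Agent.AlgSpDec IsLocalRing Topology

namespace Groth.Agent.AlgSpDec2.FibreTopo

variable {S : Scheme.{u}}

section Field

variable {P : Sp S} {pt : Over S} [Subsingleton ↥pt.left] [IsLocallyNoetherian pt.left] [JacobsonSpace ↥pt.left]
  {q : P ⟶ (yon S).obj pt} (hq : LocP @LocallyOfFiniteType q)

include hq in
theorem exists_hom {U : Over S} {a : (yon S).obj U ⟶ P} (ha : RepWith @Etale a) :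
    ∃ c : U ⟶ pt, a ≫ q = (yon S).map c ≫ 𝟙 _ ∧ LocallyOfFiniteType c.left := by
  obtain ⟨c, hc⟩ := (yon S).map_surjective (a ≫ q)
  have w : a ≫ q = (yon S).map c ≫ 𝟙 _ := by rw [Category.comp_id, hc]
  exact ⟨c, w, hq a (𝟙 _) c ha (repWith_id _ _) w⟩

theorem fibreDimAt_iff {U : Over S} (c : U ⟶ pt) [LocallyOfFiniteType c.left] (u : ↥U.left) :
    FlatMor.fibreDimAt c.left u = 0 ↔ IsOpen ({u} : Set ↥U.left) := by
  haveI : IsLocallyNoetherian U.left := LocallyOfFiniteType.isLocallyNoetherian c.left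
  rw [FieldFibre.fibreDimAt_of_subsingleton, Groth.Agent.S9798.result]

theorem isClosed_of_isolated {U : Over S} (c : U ⟶ pt) [LocallyOfFiniteType c.left] {O : Set ↥U.left}
    (hO : ∀ v ∈ O, IsOpen ({v} : Set ↥U.left)) : IsClosed O := by
  haveI : IsLocallyNoetherian U.left := LocallyOfFiniteType.isLocallyNoetherian c.left
  haveI : JacobsonSpace ↥U.left := LocallyOfFiniteType.jacobsonSpace c.left
  refine isClosed_of_closure_subset fun v hv => ?_
  obtain ⟨A, hA, hvA, -⟩ := exists_isAffineOpen_mem_and_subset (U := (⊤ : U.left.Opens)) (x := v) trivial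
  haveI : IsNoetherianRing Γ(U.left, A) := IsLocallyNoetherian.component_noetherian ⟨A, hA⟩
  haveI : TopologicalSpace.NoetherianSpace (A : Set ↥U.left) := noetherianSpace_of_isAffineOpen A hA
  have hfin : ((A : Set ↥U.left) ∩ O).Finite := by
    have hc : IsCompact (Subtype.val '' (Subtype.val ⁻¹' O : Set (A : Set ↥U.left))) :=
      (TopologicalSpace.NoetherianSpace.isCompact _).image continuous_subtype_val
    rw [Subtype.image_preimage_coe] at hc
    obtain ⟨t, ht⟩ := hc.elim_finite_subcover (fun z : O => ({z.1} : Set ↥U.left)) (fun z => hO _ z.2)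
      (fun z hz => Set.mem_iUnion.2 ⟨⟨z, hz.2⟩, rfl⟩)
    refine (t.finite_toSet.image Subtype.val).subset fun z hz => ?_
    obtain ⟨i, hi⟩ := Set.mem_iUnion.1 (ht hz)
    obtain ⟨hit, hiz⟩ : i ∈ t ∧ z = i.1 := by simpa using hi
    exact ⟨i, hit, hiz.symm⟩
  have hcl : IsClosed ((A : Set ↥U.left) ∩ O) := by
    rw [← Set.biUnion_of_singleton ((A : Set ↥U.left) ∩ O)]
    exact hfin.isClosed_biUnion fun z hz =>
      isClosed_singleton_of_isLocallyClosed_singleton (hO z hz.2).isLocallyClosed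
  exact ((hcl.closure_eq ▸ A.isOpen.inter_closure ⟨hvA, hv⟩ : v ∈ (A : Set ↥U.left) ∩ O)).2

include hq in
theorem isOpen_preimage_singleton {U : Over S} {a : (yon S).obj U ⟶ P} (ha : RepWith @Etale a) (u : ↥U.left)
    (hgen : ∀ z, z ⤳ u → Points.ofPt a z = Points.ofPt a u)
    (hlc : IsLocallyClosed (Points.ofPt a ⁻¹' {Points.ofPt a u})) : IsOpen ({u} : Set ↥U.left) := by
  obtain ⟨c, w, hc⟩ := exists_hom hq ha
  haveI := hc
  haveI : JacobsonSpace ↥U.left := LocallyOfFiniteType.jacobsonSpace c.left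
  rw [← fibreDimAt_iff c u, FieldFibre.fibreDimAt_eq_zero_iff_rd]
  intro z hz _
  obtain ⟨u₀, hu₀O, hu₀⟩ := nonempty_inter_closedPoints (Z := Points.ofPt a ⁻¹' {Points.ofPt a u}) ⟨u, rfl⟩ hlc
  have h₀ : FibDim.rd c.left u₀ = 0 := DimFormula.rd_eq_zero_of_closed c.left fun x' _ hsp =>
    (hu₀.closure_eq ▸ hsp.mem_closure : x' ∈ ({u₀} : Set ↥U.left))
  have he : Points.ofPt a u₀ = Points.ofPt a z := Eq.trans hu₀O (hgen z hz).symm
  have h1 := ResTrdeg.rdeg_congr (f := q) (u := u₀) (u' := z) ha (repWith_id _ _) w ha (repWith_id _ _) w he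
  have h2 : (FibDim.rd c.left z : Cardinal.{u}) = (FibDim.rd c.left u₀ : Cardinal.{u}) := by
    rw [FibDim.rd_eq_rdeg, FibDim.rd_eq_rdeg]; exact h1.symm
  rw [h₀] at h2
  exact_mod_cast h2

include hq in
/-- A point is isolated exactly when it is isolated on a chart. -/
theorem isOpen_iff {U : Over S} {a : (yon S).obj U ⟶ P} (ha : RepWith @Etale a) (u : ↥U.left) :
    IsOpen ({Points.ofPt a u} : Set (Points P)) ↔ IsOpen ({u} : Set ↥U.left) := by
  refine ⟨fun h => ?_, fun h => ?_⟩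
  · have hO := h.preimage (Points.continuous_ofPt a)
    exact isOpen_preimage_singleton hq ha u
      (fun z hz => hz.mem_open hO rfl) hO.isLocallyClosed
  · simpa using isOpenMap_ofPt ha _ h

include hq in
theorem isOpen_iff_closed_gen (hP : IsAlgSpace P) (z : Points P) :
    IsOpen ({z} : Set (Points P)) ↔ IsClosed ({z} : Set (Points P)) ∧ ∀ z', z' ⤳ z → z' = z := by
  obtain ⟨U, a, ha, has⟩ := hP.atlas
  constructor
  · intro h
    refine ⟨?_, fun z' hz' => hz'.mem_open h rfl⟩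
    obtain ⟨c, -, hc⟩ := exists_hom hq ha
    haveI := hc
    refine (isQuotientMap_ofPt ha has).isClosed_preimage.1 (isClosed_of_isolated c fun v hv => ?_)
    exact (isOpen_iff hq ha v).1 (by rw [show Points.ofPt a v = z from hv]; exact h)
  · rintro ⟨hc, hg⟩
    obtain ⟨u, rfl⟩ := surjective_ofPt has z
    exact (isOpen_iff hq ha u).2 (isOpen_preimage_singleton hq ha u
      (fun v hv => hg _ (hv.map (Points.continuous_ofPt a))) (hc.preimage (Points.continuous_ofPt a)).isLocallyClosed)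

include hq in
theorem isOpen_iff_hasAt (hP : IsAlgSpace P) (z : Points P) :
    IsOpen ({z} : Set (Points P)) ↔ HasAt (fun U u => FlatMor.localDim ↥U u = 0) P z := by
  constructor
  · intro h
    obtain ⟨U, a, ha, has⟩ := hP.atlas
    obtain ⟨u, rfl⟩ := surjective_ofPt has z
    obtain ⟨c, -, hc⟩ := exists_hom hq ha
    haveI := hc
    haveI : IsLocallyNoetherian U.left := LocallyOfFiniteType.isLocallyNoetherian c.left
    exact ⟨U, a, u, ha, rfl, (Groth.Agent.S9798.result _ _).2 ((isOpen_iff hq ha u).1 h)⟩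
  · rintro ⟨U, a, u, ha, rfl, h⟩
    obtain ⟨c, -, hc⟩ := exists_hom hq ha
    haveI := hc
    haveI : IsLocallyNoetherian U.left := LocallyOfFiniteType.isLocallyNoetherian c.left
    exact (isOpen_iff hq ha u).2 ((Groth.Agent.S9798.result _ _).1 h)

include hq in
theorem localDim_iff (hP : IsAlgSpace P) (hd : IsDecent P) (z : Points P) :
    FlatMor.localDim (Points P) z = 0 ↔ IsOpen ({z} : Set (Points P)) := by
  haveI := t0Space_points hP hd
  haveI := quasiSober_points hP hd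
  obtain ⟨U, a, ha, has⟩ := hP.atlas
  obtain ⟨u, rfl⟩ := surjective_ofPt has z
  obtain ⟨c, -, hc⟩ := exists_hom hq ha
  haveI := hc
  haveI : IsLocallyNoetherian U.left := LocallyOfFiniteType.isLocallyNoetherian c.left
  rw [← localDim_eq hd ha u, isOpen_iff hq ha u, Groth.Agent.S9798.result]

include hq in
theorem discrete_of_finite (hP : IsAlgSpace P) (hd : IsDecent P) [Finite (Points P)] :
    DiscreteTopology (Points P) := by
  refine discreteTopology_iff_isOpen_singleton.2 fun z => ?_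
  obtain ⟨U, a, u, hU, ha, rfl⟩ := exists_affine_chart_at hP z
  haveI := hU
  obtain ⟨c, -, hc⟩ := exists_hom hq ha
  haveI := hc
  haveI : JacobsonSpace ↥U.left := LocallyOfFiniteType.jacobsonSpace c.left
  haveI : Finite ↥U.left := Set.finite_univ_iff.1 ((Set.finite_univ.biUnion
    (t := fun x => Points.ofPt a ⁻¹' {x}) fun x _ => finite_fibre hP hd ha x).subset fun v _ =>
      Set.mem_biUnion (Set.mem_univ (Points.ofPt a v)) rfl)
  exact (isOpen_iff hq ha u).2 (isOpen_discrete _)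

include hq in
theorem discrete_of_dim_zero (hP : IsAlgSpace P) (hd : IsDecent P)
    (h : topologicalKrullDim (Points P) = 0) : DiscreteTopology (Points P) := by
  haveI := t0Space_points hP hd
  haveI := quasiSober_points hP hd
  refine discreteTopology_iff_isOpen_singleton.2 fun z => (localDim_iff hq hP hd z).1 ?_
  refine le_antisymm ?_ ?_
  · refine iInf_le_of_le ⟨⊤, trivial⟩ ?_
    exact le_trans (IsInducing.topologicalKrullDim_le ⟨rfl⟩) h.le
  · refine le_iInf fun U => ?_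
    exact Order.krullDim_nonneg_iff.2 ⟨⟨closure {(⟨z, U.2⟩ : (U.1 : Set (Points P)))},
      isIrreducible_singleton.closure, isClosed_closure⟩⟩

end Field

variable {X Y Xk : Sp S} {f : X ⟶ Y} (hX : IsAlgSpace X) (hY : IsAlgSpace Y) (hf : LocP @LocallyOfFiniteType f)

include hX hY hf

theorem isOpen_iff_qf (k : FieldPt Y) {fst : Xk ⟶ X} {snd : Xk ⟶ (yon S).obj k.pt}
    (sq : IsPullback fst snd f k.toHom) (z : Points Xk) :
    IsOpen ({z} : Set (Points Xk)) ↔
      HasAtMor (fun U _ h u => ∃ W : U.Opens, u ∈ W ∧ LocallyQuasiFinite (W.ι ≫ h) ∧ LocallyOfFiniteType (W.ι ≫ h))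
        f (Points.map fst z) := by
  have hP : IsAlgSpace Xk := isAlgSpace_of_isPullback sq hX (IsAlgSpace.yon_obj _) hY
  have hsnd : LocP @LocallyOfFiniteType snd := locP_of_isPullback sq hX hY (IsAlgSpace.yon_obj _) hf
  haveI : Subsingleton ↥k.pt.left := inferInstanceAs (Subsingleton (PrimeSpectrum k.K))
  haveI : IsLocallyNoetherian k.pt.left := inferInstanceAs (IsLocallyNoetherian (Spec (CommRingCat.of k.K)))
  haveI : JacobsonSpace ↥k.pt.left := inferInstanceAs (JacobsonSpace (PrimeSpectrum k.K))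
  obtain ⟨U, a, ha, has⟩ := hP.atlas
  obtain ⟨u, rfl⟩ := surjective_ofPt has z
  obtain ⟨c, w, hc⟩ := exists_hom hsnd ha
  haveI := hc
  rw [isOpen_iff hsnd ha u, ← fibreDimAt_iff c u, hasAtMor_qf_iff hf]
  obtain ⟨U₀, V₀, a₀, b₀, h₀, ha₀, ha₀', hb₀, -, w₀⟩ := exists_chart hX hY f
  obtain ⟨u₀, hu₀⟩ := surjective_ofPt ha₀' (Points.map fst (Points.ofPt a u))
  rw [← hu₀]
  obtain ⟨U₁, V₁, a₁, b₁, h₁, u₁, ha₁, hb₁, w₁, hx₁, he₁⟩ :=
    AlgSpDec.RelDimSp.baseChange sq hX hY (IsAlgSpace.yon_obj _) hf (Points.ofPt a u) _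
      ⟨U₀, V₀, a₀, b₀, h₀, u₀, ha₀, hb₀, w₀, hu₀, rfl⟩
  rw [RelDimSp.fibreDimAt_congr hsnd ha (repWith_id _ _) w ha₁ hb₁ w₁ hx₁.symm, he₁]
  exact (FieldFibre.hasAtMor_iff hf ha₀ hb₀ w₀ u₀ 0).symm

/-- The fibre in the source of the fibre over a monomorphic quasi-compact point. -/
theorem exists_fibre_homeo (hd : IsDecent Y) (y : Points Y) :
    ∃ (k : FieldPt Y) (P : Sp S) (fst : P ⟶ X) (snd : P ⟶ (yon S).obj k.pt) (e : Points P ≃ₜ ↥(Points.map f ⁻¹' {y})),
      IsPullback fst snd f k.toHom ∧ (∀ z, (e z).1 = Points.map fst z) ∧ (IsDecent X → IsDecent P) := by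
  obtain ⟨k, rfl, hm, hq⟩ := hd y
  have sq := IsPullback.of_hasPullback f k.toHom
  obtain ⟨he, hr⟩ := isEmbedding_point_fibre hX hY k hq sq
  exact ⟨k, _, _, _, he.toHomeomorph.trans (Homeomorph.setCongr hr), sq, fun z => rfl,
    fun hXd => isDecent_of_isPullback sq hX hY (IsAlgSpace.yon_obj _) hXd (isDecent_yon _)⟩

theorem isOpen_fibre_iff (hd : IsDecent Y) (y : Points Y) (x : ↥(Points.map f ⁻¹' {y})) :
    IsOpen ({x} : Set ↥(Points.map f ⁻¹' {y})) ↔
      HasAtMor (fun U _ h u => ∃ W : U.Opens, u ∈ W ∧ LocallyQuasiFinite (W.ι ≫ h) ∧ LocallyOfFiniteType (W.ι ≫ h))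
        f x.1 := by
  obtain ⟨k, P, fst, snd, e, sq, he, -⟩ := exists_fibre_homeo hX hY hf hd y
  obtain ⟨z, rfl⟩ := e.surjective x
  rw [← e.isOpen_preimage, ← Set.image_singleton, e.preimage_image, isOpen_iff_qf hX hY hf k sq z, he]

theorem isOpen_fibre_iff_closed_gen (hd : IsDecent Y) (y : Points Y) (x : ↥(Points.map f ⁻¹' {y})) :
    IsOpen ({x} : Set ↥(Points.map f ⁻¹' {y})) ↔
      IsClosed ({x} : Set ↥(Points.map f ⁻¹' {y})) ∧ ∀ x', x' ⤳ x → x' = x := by
  obtain ⟨k, P, fst, snd, e, sq, -, -⟩ := exists_fibre_homeo hX hY hf hd y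
  haveI : Subsingleton ↥k.pt.left := inferInstanceAs (Subsingleton (PrimeSpectrum k.K))
  haveI : IsLocallyNoetherian k.pt.left := inferInstanceAs (IsLocallyNoetherian (Spec (CommRingCat.of k.K)))
  haveI : JacobsonSpace ↥k.pt.left := inferInstanceAs (JacobsonSpace (PrimeSpectrum k.K))
  obtain ⟨z, rfl⟩ := e.surjective x
  rw [← e.isOpen_preimage, ← e.isClosed_preimage, ← Set.image_singleton, e.preimage_image,
    isOpen_iff_closed_gen (locP_of_isPullback sq hX hY (IsAlgSpace.yon_obj _) hf)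
      (isAlgSpace_of_isPullback sq hX (IsAlgSpace.yon_obj _) hY) z]
  refine and_congr_right fun _ => ⟨fun h x' hx' => ?_, fun h z' hz' => e.injective (h _ (hz'.map e.continuous))⟩
  obtain ⟨z', rfl⟩ := e.surjective x'
  exact congrArg e (h z' (e.isInducing.specializes_iff.1 hx'))

theorem localDim_fibre_iff (hd : IsDecent Y) (hXd : IsDecent X) (y : Points Y) (x : ↥(Points.map f ⁻¹' {y})) :
    FlatMor.localDim ↥(Points.map f ⁻¹' {y}) x = 0 ↔ IsOpen ({x} : Set ↥(Points.map f ⁻¹' {y})) := by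
  obtain ⟨k, P, fst, snd, e, sq, -, hPd⟩ := exists_fibre_homeo hX hY hf hd y
  haveI : Subsingleton ↥k.pt.left := inferInstanceAs (Subsingleton (PrimeSpectrum k.K))
  haveI : IsLocallyNoetherian k.pt.left := inferInstanceAs (IsLocallyNoetherian (Spec (CommRingCat.of k.K)))
  haveI : JacobsonSpace ↥k.pt.left := inferInstanceAs (JacobsonSpace (PrimeSpectrum k.K))
  obtain ⟨z, rfl⟩ := e.surjective x
  rw [FibDim.localDim_homeomorph e z, ← e.isOpen_preimage, ← Set.image_singleton, e.preimage_image,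
    localDim_iff (locP_of_isPullback sq hX hY (IsAlgSpace.yon_obj _) hf)
      (isAlgSpace_of_isPullback sq hX (IsAlgSpace.yon_obj _) hY) (hPd hXd) z]

end Groth.Agent.AlgSpDec2.FibreTopo
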