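import Groth.Agent.AlgSpDec.GenFiniteSp
import Groth.Agent.AlgSpDec.AffineRep
import Groth.Agent.AlgSpDec.Fibres
import Groth.Agent.AlgSpDec.PointLocusInst
import Groth.Agent.AlgSpDec.Glue
import Groth.Agent.AlgSpDec.LimOpen
import Groth.Agent.AlgSpDec.PointsSpectral
import Groth.Agent.AlgSpPts.OpenSub

/-!
# Finite fibres over points of codimension zero
-/

set_option backward.isDefEq.respectTransparency false
set_option backward.isDefEq.respectTransparency.types false

universe u

open CategoryTheory CategoryTheory.Limits AlgebraicGeometry AlgSp Groth.Agent.AlgSpLib Groth.Agent.AlgSpPts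
  Groth.Agent.AlgSpDec

namespace Groth.Agent.AlgSpDec2

variable {S : Scheme.{u}}

theorem fibreDimAt_zero_of_finite {X Y : Scheme.{u}} (f : X ⟶ Y) [LocallyOfFiniteType f] (x : X)
    (h : (f ⁻¹' {f x}).Finite) : FlatMor.fibreDimAt f x = 0 := by
  rw [AlgSpDec.fibreDimAt_eq_zero_iff]
  haveI : LocallyOfFiniteType (f.fiberToSpecResidueField (f x)) :=
    MorphismProperty.pullback_snd (P := @LocallyOfFiniteType) _ _ ‹_›
  haveI : JacobsonSpace ↥(f.fiber (f x)) :=
    LocallyOfFiniteType.jacobsonSpace (f.fiberToSpecResidueField (f x))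
  haveI : Finite ↥(f ⁻¹' {f x}) := h.to_subtype
  haveI : Finite ↥(f.fiber (f x)) := Finite.of_equiv _ (f.fiberHomeo (f x)).symm.toEquiv
  exact isOpen_discrete _

/-- A point with finite fibre into a decent space is a point of quasi-finiteness. -/
theorem qfAt_of_finite_fibre {X Y : Space S} (f : X ⟶ Y) (hf : LocP @LocallyOfFiniteType f.hom)
    (hX : IsDecent X.obj) (y : Points Y.obj) (hfin : (Points.map f.hom ⁻¹' {y}).Finite)
    (x : Points X.obj) (hx : Points.map f.hom x = y) :
    PointLocus.At (fun {_ _} h u => FlatMor.fibreDimAt h u = 0) f.hom x := by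
  obtain ⟨U, V, a, b, h, ha, has, hb, -, w⟩ := exists_chart X.property Y.property f.hom
  obtain ⟨u, rfl⟩ := surjective_ofPt has x
  obtain ⟨U', ι, u', hU', -, hu', ha'⟩ := exists_affine_restrict ha u
  haveI := hU'
  have w' : ((yon S).map ι ≫ a) ≫ f.hom = (yon S).map (ι ≫ h) ≫ b := by
    rw [Category.assoc, w, ← Category.assoc, ← Functor.map_comp]
  haveI : LocallyOfFiniteType (ι ≫ h).left := hf _ _ _ ha' hb w'
  refine ⟨U', V, _, b, ι ≫ h, u', ha', hb, w', by rw [ofPt_comp, hu'], fibreDimAt_zero_of_finite _ _ ?_⟩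
  refine (hfin.biUnion (t := fun x => Points.ofPt ((yon S).map ι ≫ a) ⁻¹' {x}) fun x _ => ?_).subset fun v hv => ?_
  · obtain ⟨p, hp, -, hq⟩ := hX x
    rw [← hp]
    exact finite_fibre_of_repWith ha' p hq
  · refine Set.mem_biUnion (x := Points.ofPt ((yon S).map ι ≫ a) v) ?_ rfl
    show Points.map f.hom _ = y
    rw [← hx, Points.map_ofPt, Points.map_ofPt, w', w, ofPt_comp, ofPt_comp,
      show (ι ≫ h).left v = (ι ≫ h).left u' from hv, Over.comp_left, Scheme.Hom.comp_apply, hu']

theorem exists_qc_open {X : Sp S} (hX : IsAlgSpace X) {F : Set (Points X)} (hF : F.Finite) :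
    ∃ (X₀ : Sp S) (j : X₀ ⟶ X), IsAlgSpace X₀ ∧ IsQuasiCompactSp X₀ ∧ RepWith @IsOpenImmersion j ∧
      F ⊆ Set.range (Points.map j) := by
  choose U a u hU ha hu using fun x : F => exists_affine_chart_at hX x.1
  haveI := hF.to_subtype
  let W : Set (Points X) := ⋃ x, Set.range (Points.ofPt (a x))
  have hW : IsOpen W := isOpen_iUnion fun x => (isOpenMap_ofPt (ha x)).isOpen_range
  have hWc : IsCompact W := isCompact_iUnion fun x => by
    haveI := hU x
    exact isCompact_range (Points.continuous_ofPt _)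
  obtain ⟨X₀, j, hX₀, hj, hr⟩ := exists_open_subspace hX hW
  refine ⟨X₀, j, hX₀, (AlgSpPts.isQuasiCompactSp_iff hX₀).2 ⟨?_⟩, hj,
    fun x hx => hr ▸ Set.mem_iUnion.2 ⟨⟨x, hx⟩, _, hu _⟩⟩
  have hemb : Topology.IsOpenEmbedding (Points.map j) := isOpenEmbedding_map' hX hj
  rw [hemb.isInducing.isCompact_iff, Set.image_univ, hr]
  exact hWc

theorem exists_finite_restrict_iff [QuasiSeparatedSpace ↥S] {X Y : Space S} (f : X ⟶ Y)
    (hqs : IsQuasiSeparatedMor f.hom) (hft : LocP @LocallyOfFiniteType f.hom)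
    (hY : IsQuasiSeparatedSp Y.obj) (y : Points Y.obj)
    (hy : HasAt (fun U u => ringKrullDim ↥(U.presheaf.stalk u) = 0) Y.obj y) :
    (Points.map f.hom ⁻¹' {y}).Finite ↔
      ∃ (X' Y' : Space S) (i : X' ⟶ X) (j : Y' ⟶ Y) (f' : X' ⟶ Y'), RepWith @IsOpenImmersion i.hom ∧
        RepWith @IsOpenImmersion j.hom ∧ f' ≫ j = i ≫ f ∧ y ∈ Set.range (Points.map j.hom) ∧
          Points.map f.hom ⁻¹' {y} ⊆ Set.range (Points.map i.hom) ∧ IsFiniteMor f'.hom := by
  constructor
  · intro hfin
    obtain ⟨X₀, jX, hX₀, hqc, hj, hFsub⟩ := exists_qc_open X.property hfin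
    haveI : Mono jX := mono_of_openImmersion hj
    let X₀' : Space S := ⟨X₀, hX₀⟩
    let jX' : X₀' ⟶ X := ⟨jX⟩
    let f₀ := jX' ≫ f
    have hjqs : IsQuasiSeparatedMor jX := repWith_of_isIso _ _
    have hl : LocP @LocallyOfFiniteType f₀.hom :=
      locP_comp hX₀ X.property Y.property
        (locP_of_repWith (repWith_mono (P := @IsOpenImmersion) (Q := @LocallyOfFiniteType)
          (fun _ _ e (_ : IsOpenImmersion e) => inferInstanceAs (LocallyOfFiniteType e)) _ hj)) hft
    have hqs₀ : IsQuasiSeparatedMor f₀.hom := isQuasiSeparatedMor_comp hjqs hqs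
    have hqs₀' : IsQuasiSeparatedSp X₀ := by
      rw [isQuasiSeparatedSp_iff_mor, (isTerminalYon S).hom_ext ((isTerminalYon S).from X₀)
        (f₀.hom ≫ (isTerminalYon S).from Y.obj)]
      exact isQuasiSeparatedMor_comp hqs₀ ((isQuasiSeparatedSp_iff_mor _).1 hY)
    have hfin₀ : (Points.map f₀.hom ⁻¹' {y}).Finite := by
      refine (hfin.preimage (injective_points_map_of_mono jX).injOn).subset fun x hx => ?_
      show Points.map f.hom (Points.map jX x) = y
      rw [← Points.map_comp]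
      exact hx
    obtain ⟨Y', X', j, fst, snd, hj', hyj, sq, hfin'⟩ :=
      GenFiniteSp.exists_finite_open f₀ hqs₀ ⟨hl, isQuasiCompactMor_of_qc_qs hX₀ Y.property hqc hY _⟩ y hy
        (qfAt_of_finite_fibre f₀ hl (isDecent_of_isQuasiSeparatedSp hX₀ hqs₀') y hfin₀)
    refine ⟨X', Y', snd ≫ jX', j, fst, repWith_comp (repWith_of_isPullback sq hj') hj, hj', ?_, hyj, ?_, hfin'⟩
    · apply ObjectProperty.hom_ext
      exact sq.w.trans (Category.assoc _ _ _).symm
    · intro x hx
      obtain ⟨x₀, rfl⟩ := hFsub hx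
      obtain ⟨y', hy'⟩ := hyj
      obtain ⟨z, -, hz⟩ := exists_point_of_isPullback sq (show Points.map j.hom y' = Points.map f₀.hom x₀ by
        rw [hy']; exact ((Points.map_comp _ _ _).trans hx).symm)
      exact ⟨z, (Points.map_comp _ _ _).trans (congrArg _ hz)⟩
  · rintro ⟨X', Y', i, j, f', -, hj, hw, ⟨y', rfl⟩, hsub, hf'⟩
    haveI : Mono j.hom := mono_of_openImmersion hj
    have hr := isFiniteMor_iff_repWith.1 hf'
    obtain ⟨T, g, t, -, rfl⟩ := exists_ofPt_eq y'
    haveI : IsFinite (hr.rep.snd g).left := hr.property_snd g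
    refine (((hr.rep.snd g).left.finite_preimage_singleton t).image
      (Points.map i.hom ∘ Points.ofPt (hr.rep.fst g))).subset fun x hx => ?_
    obtain ⟨x', rfl⟩ := hsub hx
    obtain ⟨v, hv, hvt⟩ := exists_lift (hr.rep.isPullback g) (show Points.map f'.hom x' = Points.ofPt g t from
      injective_points_map_of_mono j.hom (by
        rw [← hx, ← Points.map_comp, ← Points.map_comp]
        exact congrFun (congrArg Points.map (congrArg (fun m => m.hom) hw)) x'))
    exact ⟨v, hvt, congrArg _ hv⟩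

end Groth.Agent.AlgSpDec2
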