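import Groth.Agent.AlgSpDec2.GenericPt
import Groth.Agent.AlgSpDec.DecentDense
import Groth.Agent.AlgSpDec.GenFiniteGlobal
import Groth.Agent.AlgSpLib.LargestOpen
import Groth.Agent.MorLib.GenFinite

/-!
# Finite pieces around generic points
-/

set_option backward.isDefEq.respectTransparency false
set_option backward.isDefEq.respectTransparency.types false

universe u

open CategoryTheory CategoryTheory.Limits AlgebraicGeometry AlgSp Groth.Agent.AlgSpLib Groth.Agent.AlgSpPts
  Groth.Agent.AlgSpDec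

namespace Groth.Agent.AlgSpDec2.GenericPt

variable {S : Scheme.{u}} {X Y : Space S}

theorem range_map_eq {U : Over S} (a : (yon S).obj U ⟶ X.obj) :
    Set.range (Points.map a) = Set.range (Points.ofPt a) := by
  ext z
  constructor
  · rintro ⟨q, rfl⟩
    obtain ⟨u, rfl⟩ := (Points.schemeHomeo U).surjective q
    exact ⟨u, (SplitQf.map_yon_eq_ofPt a u).symm⟩
  · rintro ⟨u, rfl⟩
    exact ⟨_, SplitQf.map_yon_eq_ofPt a u⟩

theorem openImm_etale {U : Over S} {a : (yon S).obj U ⟶ X.obj} (ha : RepWith @IsOpenImmersion a) :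
    RepWith @Etale a :=
  repWith_mono (P := @IsOpenImmersion) (Q := @Etale)
    (fun _ _ g (_ : IsOpenImmersion g) => inferInstanceAs (Etale g)) _ ha

/-- The generic point of a decent space has affine open neighbourhoods. -/
theorem exists_affine_gen (hX : IsDecent X.obj) {x : Points X.obj}
    (hx : IsGenericPoint x (Set.univ : Set (Points X.obj))) {W : Set (Points X.obj)} (hW : IsOpen W) (hxW : x ∈ W) :
    ∃ (U : Over S) (a : (yon S).obj U ⟶ X.obj) (u : ↥U.left), IsAffine U.left ∧ RepWith @IsOpenImmersion a ∧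
      Points.ofPt a u = x ∧ Set.range (Points.map a) ⊆ W := by
  haveI : Nonempty (Points X.obj) := ⟨x⟩
  obtain ⟨X', j, hj, hr, hd⟩ := exists_dense_open_subscheme_of_isDecent X hX
  obtain ⟨T, ⟨r⟩⟩ := hr.has_representation
  let e : (yon S).obj T ≅ X'.obj := isoOfRepresentableBy r
  let t : (yon S).obj T ⟶ X.obj := e.hom ≫ j.hom
  have ht : RepWith @IsOpenImmersion t := repWith_comp (repWith_of_isIso _ e.hom) hj
  have htr : IsOpen (Set.range (Points.map j.hom)) := (isOpenEmbedding_map' X.property hj).isOpen_range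
  obtain ⟨w, hw⟩ := hd.nonempty
  obtain ⟨z, hz⟩ := (hx.specializes (Set.mem_univ w)).mem_open htr hw
  obtain ⟨τ, hτ⟩ := (Points.schemeHomeo T).surjective (Points.map e.inv z)
  have hτx : Points.ofPt t τ = x := by
    rw [← SplitQf.map_yon_eq_ofPt, hτ, ← Points.map_comp, Iso.inv_hom_id_assoc]
    exact hz
  obtain ⟨A, hA, hτA, hAW⟩ := exists_isAffineOpen_mem_and_subset (x := τ)
    (U := (⟨Points.ofPt t ⁻¹' W, hW.preimage (Points.continuous_ofPt t)⟩ : T.left.Opens)) (hτx.symm ▸ hxW : Points.ofPt t τ ∈ W)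
  let ι : Over.mk (A.ι ≫ T.hom) ⟶ T := Over.homMk A.ι rfl
  refine ⟨Over.mk (A.ι ≫ T.hom), (yon S).map ι ≫ t, (⟨τ, hτA⟩ : A.toScheme), hA,
    repWith_comp ((repWith_yon_map_iff _ ι).2 (inferInstanceAs (IsOpenImmersion A.ι))) ht, ?_, ?_⟩
  · rw [ofPt_comp]; exact hτx
  · rw [range_map_eq]
    rintro _ ⟨v, rfl⟩
    rw [ofPt_comp]
    exact hAW v.2

theorem exists_affine_opens_finite_iff (hX : IsDecent X.obj) (hY : IsDecent Y.obj) (f : X ⟶ Y)
    (hf : LocP @LocallyOfFiniteType f.hom) (hd : IsDominantMor f.hom)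
    {x : Points X.obj} (hx : IsGenericPoint x (Set.univ : Set (Points X.obj)))
    {y : Points Y.obj} (hy : IsGenericPoint y (Set.univ : Set (Points Y.obj))) :
    (∃ (U V : Over S) (a : (yon S).obj U ⟶ X.obj) (b : (yon S).obj V ⟶ Y.obj) (g : U ⟶ V),
      IsAffine U.left ∧ IsAffine V.left ∧ Nonempty ↥U.left ∧
        RepWith @IsOpenImmersion a ∧ RepWith @IsOpenImmersion b ∧
          a ≫ f.hom = (yon S).map g ≫ b ∧ IsFinite g.left) ↔
      (∀ x' : Points X.obj, Points.map f.hom x' = y → x' = x) := by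
  constructor
  · rintro ⟨U, V, a, b, g, -, -, ⟨u⟩, ha, hb, w, hg⟩
    refine (qf_iff_unique hX hY f hf hd hx hy).1 ?_
    obtain ⟨u₀, hu₀⟩ := (hx.specializes (Set.mem_univ _)).mem_open
      (isOpenMap_ofPt (openImm_etale ha)).isOpen_range ⟨u, rfl⟩
    exact ⟨U, V, a, b, g, u₀, openImm_etale ha, openImm_etale hb, w, hu₀, fibreDimAt_eq_zero_of_lqf g.left u₀⟩
  · intro huniq
    obtain ⟨V, b, v, hV, hb, hv, -⟩ := exists_affine_gen hY hy isOpen_univ trivial
    have hbr : IsOpen (Set.range (Points.map b)) := (isOpenEmbedding_map' Y.property hb).isOpen_range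
    have hfx := map_generic hY f hd hx hy
    obtain ⟨U, a, u, hU, ha, hu, haW⟩ := exists_affine_gen hX hx (hbr.preimage (Points.continuous_map f.hom))
      (show Points.map f.hom x ∈ Set.range (Points.map b) by rw [hfx, range_map_eq]; exact ⟨v, hv⟩)
    obtain ⟨g', hg'⟩ := exists_lift_openImmersion (IsAlgSpace.yon_obj U) (IsAlgSpace.yon_obj V) Y.property hb
      (a ≫ f.hom) (by rintro _ ⟨q, rfl⟩; rw [Points.map_comp]; exact haW ⟨q, rfl⟩)
    obtain ⟨g, rfl⟩ := (yon S).map_surjective g'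
    haveI := hU
    haveI := hV
    haveI : LocallyOfFiniteType g.left := hf a b g (openImm_etale ha) (openImm_etale hb) hg'.symm
    have hinj : Function.Injective (Points.ofPt b) := fun v₁ v₂ h => by
      haveI : Mono b := mono_of_openImmersion hb
      rw [← SplitQf.map_yon_eq_ofPt, ← SplitQf.map_yon_eq_ofPt] at h
      exact (Points.schemeHomeo V).injective (injective_points_map_of_mono b h)
    have hpt : ∀ w, Points.map f.hom (Points.ofPt a w) = Points.ofPt b (g.left w) := fun w => by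
      rw [Points.map_ofPt, ← hg', ofPt_comp]
    have hguv : g.left u = v := hinj (by rw [← hpt, hu, hfx, hv])
    have hgen : v ∈ genericPoints ↥V.left := GenFiniteSp.mem_genericPoints_of_coheight
      ((FibreCodim.hasAt_iff_coheight (openImm_etale hb) v).1 ((c0_iff hY hy _).2 hv))
    have hfib : g.left ⁻¹' {v} ⊆ {u} := fun w hw => by
      haveI : Mono a := mono_of_openImmersion ha
      have h1 : Points.ofPt a w = Points.ofPt a u := by
        rw [hu]; exact huniq _ (by rw [hpt, show g.left w = v from hw, hv])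
      rw [← SplitQf.map_yon_eq_ofPt, ← SplitQf.map_yon_eq_ofPt] at h1
      exact (Points.schemeHomeo U).injective (injective_points_map_of_mono a h1)
    have hfin : (g.left ⁻¹' {v}).Finite := (Set.finite_singleton u).subset hfib
    obtain ⟨O, hO, hvO, -, hfinO⟩ := MorLib.GenFinite.exists_isFinite g.left hgen hfin
      (fun z hz => MorLib.GenFinite.exists_open_of_finite_fibre g.left hfin z hz)
      (fun V₀ hV₀ hη₀ U₁ U₂ h₁ h₂ e₁ e₂ h => MorLib.GenFinite.exists_avoid_inf g.left hgen hV₀ hη₀ h₁ h₂ e₁ e₂ h)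
      ⊤ trivial
    haveI : IsFinite (g.left ∣_ O) := hfinO
    haveI : IsAffine O.toScheme := hO
    haveI : IsAffine (g.left ⁻¹ᵁ O).toScheme := isAffine_of_isAffineHom (g.left ∣_ O)
    let ιU : Over.mk ((g.left ⁻¹ᵁ O).ι ≫ U.hom) ⟶ U := Over.homMk (g.left ⁻¹ᵁ O).ι rfl
    let ιV : Over.mk (O.ι ≫ V.hom) ⟶ V := Over.homMk O.ι rfl
    let g₁ : Over.mk ((g.left ⁻¹ᵁ O).ι ≫ U.hom) ⟶ Over.mk (O.ι ≫ V.hom) := Over.homMk (g.left ∣_ O) (by
      show (g.left ∣_ O) ≫ O.ι ≫ V.hom = (g.left ⁻¹ᵁ O).ι ≫ U.hom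
      rw [← Category.assoc, morphismRestrict_ι, Category.assoc, Over.w g])
    refine ⟨_, _, (yon S).map ιU ≫ a, (yon S).map ιV ≫ b, g₁, ‹_›, ‹_›, ⟨(⟨u, ?_⟩ : (g.left ⁻¹ᵁ O).toScheme)⟩,
      repWith_comp ((repWith_yon_map_iff _ _).2 (inferInstanceAs (IsOpenImmersion (g.left ⁻¹ᵁ O).ι))) ha,
      repWith_comp ((repWith_yon_map_iff _ _).2 (inferInstanceAs (IsOpenImmersion O.ι))) hb, ?_, hfinO⟩
    · show g.left u ∈ O
      rw [hguv]; exact hvO
    · have e : g₁ ≫ ιV = ιU ≫ g := Over.OverMorphism.ext (morphismRestrict_ι g.left O)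
      rw [Category.assoc, ← hg', ← Category.assoc, ← Category.assoc, ← Functor.map_comp, ← Functor.map_comp, e]

theorem exists_affine_finite_preimage_iff (hX : IsDecent X.obj) (hY : IsDecent Y.obj) (f : X ⟶ Y)
    (hf : LocP @LocallyOfFiniteType f.hom) (hd : IsDominantMor f.hom)
    {x : Points X.obj} (hx : IsGenericPoint x (Set.univ : Set (Points X.obj)))
    {y : Points Y.obj} (hy : IsGenericPoint y (Set.univ : Set (Points Y.obj)))
    (hsq : IsSeparatedMor f.hom ∨ IsQuasiCompactMor f.hom) :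
    (∀ x' : Points X.obj, Points.map f.hom x' = y → x' = x) ↔
      ∃ (V : Over S) (b : (yon S).obj V ⟶ Y.obj) (U : Over S) (g : U ⟶ V) (a : (yon S).obj U ⟶ X.obj),
        IsAffine V.left ∧ Nonempty ↥V.left ∧ RepWith @IsOpenImmersion b ∧
          IsPullback a ((yon S).map g) f.hom b ∧ IsAffine U.left ∧ IsFinite g.left := by
  constructor
  · intro huniq
    have hset : ∀ {Z : Space S} (_ : IsDecent Z.obj) {z : Points Z.obj}
        (_ : IsGenericPoint z (Set.univ : Set (Points Z.obj))),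
        {z : Points Z.obj | GenFiniteGlobal.C0 Z.obj z}.Finite := fun hZ z hz =>
      (Set.finite_singleton z).subset fun w hw => (c0_iff hZ hz w).1 hw
    obtain ⟨Y', X', j, fst, snd, hj, hyj, sq, hfin⟩ := GenFiniteGlobal.exists_finite_open_at f hf hY
      (hset hX hx) (hset hY hy) (fun z => by
        refine (c0_iff hX hx z).trans (Iff.trans ?_ (c0_iff hY hy _).symm)
        exact ⟨fun h => h ▸ map_generic hY f hd hx hy, huniq z⟩)
      hsq.symm ((c0_iff hY hy y).2 rfl)
    obtain ⟨V, b, v, hV, hb, hv, hbr⟩ :=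
      exists_affine_gen hY hy (isOpenEmbedding_map' Y.property hj).isOpen_range hyj
    obtain ⟨k, hk⟩ := exists_lift_openImmersion (IsAlgSpace.yon_obj V) Y'.property Y.property hj b hbr
    have hr := isFiniteMor_iff_repWith.1 hfin
    haveI : IsFinite (hr.rep.snd k).left := hr.property_snd k
    haveI := hV
    refine ⟨V, b, _, hr.rep.snd k, hr.rep.fst k ≫ snd.hom, hV, ⟨v⟩, hb, ?_,
      isAffine_of_isAffineHom (hr.rep.snd k).left, hr.property_snd k⟩
    rw [← hk]
    exact ((hr.rep.isPullback k).flip.paste_vert sq).flip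
  · rintro ⟨V, b, U, g, a, -, ⟨v⟩, hb, sq, -, hg⟩
    have hae : RepWith @Etale a := repWith_of_isPullback sq.flip (openImm_etale hb)
    have hfx := map_generic hY f hd hx hy
    obtain ⟨v₀, hv₀⟩ := (hy.specializes (Set.mem_univ _)).mem_open
      (isOpenMap_ofPt (openImm_etale hb)).isOpen_range ⟨v, rfl⟩
    obtain ⟨u₀, hu₀, -⟩ := exists_lift sq (show Points.map f.hom x = Points.ofPt b v₀ by rw [hfx]; exact hv₀.symm)
    exact (qf_iff_unique hX hY f hf hd hx hy).1
      ⟨U, V, a, b, g, u₀, hae, openImm_etale hb, sq.w, hu₀, fibreDimAt_eq_zero_of_lqf g.left u₀⟩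

end Groth.Agent.AlgSpDec2.GenericPt
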