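import Groth.Agent.AlgSpDec2.QfCodimOne
import Groth.Agent.AlgSpDec.Basic
import Groth.Prelude.Def_AlgSpDec
import Groth.Prelude.Def_AlgSp4

/-!
# Generic points of integral spaces and quasi-finiteness
-/

set_option backward.isDefEq.respectTransparency false
set_option backward.isDefEq.respectTransparency.types false

universe u

open CategoryTheory CategoryTheory.Limits AlgebraicGeometry AlgSp Groth.Agent.AlgSpLib Groth.Agent.AlgSpPts
  Groth.Agent.AlgSpDec

namespace Groth.Agent.AlgSpDec2.GenericPt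

variable {S : Scheme.{u}} {X Y : Space S}

theorem c0_iff (hX : IsDecent X.obj) {x : Points X.obj} (hx : IsGenericPoint x (Set.univ : Set (Points X.obj)))
    (x' : Points X.obj) :
    HasAt (fun U u => ringKrullDim ↥(U.presheaf.stalk u) = 0) X.obj x' ↔ x' = x := by
  haveI := t0Space_points X.property hX
  obtain ⟨U, a, ha, has⟩ := X.property.atlas
  obtain ⟨u, rfl⟩ := surjective_ofPt has x'
  rw [FibreCodim.hasAt_iff_coheight ha, Order.coheight_eq_zero]
  constructor
  · intro hmax
    obtain ⟨z, hz, he⟩ := exists_specializes_lift_of_isDecent hX ha (u := u) (hx.specializes (Set.mem_univ _))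
    have h1 : z = u := (Scheme.le_iff_specializes.1 (hmax (Scheme.le_iff_specializes.2 hz))).antisymm hz |>.eq.symm
    rw [← he, h1]
  · rintro hu z hz
    have h1 : z ⤳ u := Scheme.le_iff_specializes.1 hz
    have h2 : Points.ofPt a u ⤳ Points.ofPt a z := hu ▸ hx.specializes (Set.mem_univ _)
    exact Scheme.le_iff_specializes.2
      ((eq_of_specializes_of_isDecent hX ha ((h2.antisymm (h1.map (Points.continuous_ofPt a))).eq) h1) ▸ specializes_rfl)

theorem map_generic (hY : IsDecent Y.obj) (f : X ⟶ Y) (hd : IsDominantMor f.hom)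
    {x : Points X.obj} (hx : IsGenericPoint x (Set.univ : Set (Points X.obj)))
    {y : Points Y.obj} (hy : IsGenericPoint y (Set.univ : Set (Points Y.obj))) : Points.map f.hom x = y := by
  haveI := t0Space_points Y.property hY
  have h := hx.image (Points.continuous_map f.hom)
  rw [Set.image_univ, DenseRange.closure_range hd] at h
  exact h.eq hy

theorem qf_iff_unique (hX : IsDecent X.obj) (hY : IsDecent Y.obj) (f : X ⟶ Y)
    (hf : LocP @LocallyOfFiniteType f.hom) (hd : IsDominantMor f.hom)
    {x : Points X.obj} (hx : IsGenericPoint x (Set.univ : Set (Points X.obj)))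
    {y : Points Y.obj} (hy : IsGenericPoint y (Set.univ : Set (Points Y.obj))) :
    PointLocus.At (fun {_ _} h u => FlatMor.fibreDimAt h u = 0) f.hom x ↔
      ∀ x' : Points X.obj, Points.map f.hom x' = y → x' = x := by
  obtain ⟨h1, h2⟩ := FibreCodim.fibre_iff f hf y ((c0_iff hY hy y).2 rfl)
  refine ⟨fun hq x' hx' => (c0_iff hX hx x').1 ?_, fun h => ?_⟩
  · exact h2 (fun z _ hz => (c0_iff hX hx z).1 hz ▸ hq) x' hx'
  · exact h1.1 (fun z hz => (c0_iff hX hx z).2 (h z hz)) x (map_generic hY f hd hx hy)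

theorem trdeg_iff_qf (hX : IsDecent X.obj) (f : X ⟶ Y) (hf : LocP @LocallyOfFiniteType f.hom)
    {x : Points X.obj} (hx : IsGenericPoint x (Set.univ : Set (Points X.obj))) :
    HasAtMor (fun _ _ h u => Dual3.resTrdeg h u = 0) f.hom x ↔
      PointLocus.At (fun {_ _} h u => FlatMor.fibreDimAt h u = 0) f.hom x := by
  refine ⟨?_, QfCodimOne.trdeg_of_qf hf x⟩
  rintro ⟨U, V, a, b, g, u, ha, hb, w, hu, h0⟩
  haveI : LocallyOfFiniteType g.left := hf a b g ha hb w
  refine ⟨U, V, a, b, g, u, ha, hb, w, hu, (FieldFibre.fibreDimAt_eq_zero_iff_rd g.left u).2 fun z hz _ => ?_⟩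
  have hc : Order.coheight u = 0 := (FibreCodim.hasAt_iff_coheight ha u).1 ((c0_iff hX hx _).2 hu)
  rw [eq_of_specializes_of_coheight hc hz]
  have h1 : VarDim.rdeg g.left u = 0 := h0
  rw [← FibDim.rd_eq_rdeg] at h1
  exact_mod_cast h1

end Groth.Agent.AlgSpDec2.GenericPt
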