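import Groth.Agent.AlgSpDec.OneFlat
import Groth.Agent.AlgSpLib.Rep
import Groth.Prelude.Def_AlgSpDec

/-!
# Reducedness of fibres and change of representative
-/

set_option backward.isDefEq.respectTransparency false
set_option backward.isDefEq.respectTransparency.types false

universe u

open CategoryTheory Limits Opposite AlgebraicGeometry AlgSp Groth.Agent.AlgSpLib

namespace Groth.Agent.AlgSpDec2

variable {S : Scheme.{u}}

/-- Being reduced descends along a flat cover of the base. -/
theorem isReducedSp_of_cover {T T' : Over S} (k : T' ⟶ T) [Flat k.left] [Surjective k.left] {P P' : Sp S} (hP : IsAlgSpace P)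
    {q : P ⟶ (yon S).obj T} {pr : P' ⟶ P} {q' : P' ⟶ (yon S).obj T'} (sq : IsPullback pr q' q ((yon S).map k))
    (hN : EtaleLocally (fun U => IsReduced U) P') : EtaleLocally (fun U => IsReduced U) P := by
  obtain ⟨U, a, ha, ha'⟩ := hP.atlas
  obtain ⟨c, hc⟩ := (yon S).map_surjective (a ≫ q)
  let U' : Over S := Over.mk (pullback.fst c.left k.left ≫ U.hom)
  let u₁ : U' ⟶ U := CategoryTheory.Over.homMk (pullback.fst c.left k.left) rfl
  let u₂ : U' ⟶ T' := CategoryTheory.Over.homMk (pullback.snd c.left k.left) (by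
    rw [← Over.w k, ← Category.assoc, ← pullback.condition, Category.assoc, Over.w c]
    rfl)
  have sq0 : IsPullback ((yon S).map u₁) ((yon S).map u₂) (a ≫ q) ((yon S).map k) := by
    rw [← hc]
    refine IsPullback.map (yon S) ?_
    exact IsPullback.of_map (CategoryTheory.Over.forget S) (Over.OverMorphism.ext pullback.condition)
      (IsPullback.of_hasPullback c.left k.left)
  let a' : (yon S).obj U' ⟶ P' := sq.lift ((yon S).map u₁ ≫ a) ((yon S).map u₂)
    (by rw [Category.assoc, sq0.w])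
  have sq1 : IsPullback ((yon S).map u₁) a' a pr :=
    IsPullback.of_bot (by rw [sq.lift_snd]; exact sq0) (sq.lift_fst _ _ _).symm sq
  have ha1 : RepWith @Etale a' := repWith_of_isPullback sq1 ha
  have : IsReduced U'.left := AlgSpDec.isReduced_chart hN ha1
  have : Flat u₁.left := MorphismProperty.pullback_fst _ _ ‹Flat k.left›
  have : Surjective u₁.left := MorphismProperty.pullback_fst _ _ ‹Surjective k.left›
  exact ⟨U, a, ha, ha', FBaseLib.isReduced_of_flat_surjective u₁.left⟩

/-- A field extension of a field point gives a field point with the same class. -/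
theorem exists_fieldPt_ext {F : Sp S} (k : FieldPt F) (k' : Type u) [Field k'] {str' : Spec (CommRingCat.of k') ⟶ S}
    (α : Over.mk str' ⟶ k.pt) :
    ∃ v, (yon S).map α ≫ k.toHom = (FieldPt.mk (F := F) k' str' v).toHom ∧
      Points.mk (FieldPt.mk (F := F) k' str' v) = Points.mk k := by
  refine ⟨F.obj.map α.op k.val, ?_, Points.sound ⟨k', inferInstance, str', 𝟙 _, α, ?_⟩⟩
  · apply (J S).uliftYonedaEquiv.injective
    erw [← GrothendieckTopology.uliftYonedaEquiv_naturality, FieldPt.uliftYonedaEquiv_toHom,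
      FieldPt.uliftYonedaEquiv_toHom]
  · erw [op_id, Functor.map_id_apply]

/-- Reducedness of a fibre follows from geometric reducedness at another representative of the point. -/
theorem isReduced_fibre_of_geomReduced {X Y : Sp S} (hX : IsAlgSpace X) (hY : IsAlgSpace Y) (f : X ⟶ Y)
    (k₀ k : FieldPt Y) (hk : Points.mk k₀ = Points.mk k)
    (H : ∀ (k' : Type u) [Field k'] (φ : k₀.K →+* k') (Xk' : Sp S) (a : Xk' ⟶ X)
          (b : Xk' ⟶ (yon S).obj (Over.mk (Spec.map (CommRingCat.ofHom φ) ≫ k₀.str))),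
          IsPullback a b f ((yon S).map (Over.homMk (Spec.map (CommRingCat.ofHom φ)) rfl :
            Over.mk (Spec.map (CommRingCat.ofHom φ) ≫ k₀.str) ⟶ k₀.pt) ≫ k₀.toHom) →
          EtaleLocally (fun U => IsReduced U) Xk')
    {Q : Sp S} {qfst : Q ⟶ X} {qsnd : Q ⟶ (yon S).obj k.pt} (hQ : IsPullback qfst qsnd f k.toHom) :
    EtaleLocally (fun U => IsReduced U) Q := by
  obtain ⟨Ω, _, w, a₀, a₁, he⟩ := Quotient.exact hk
  obtain ⟨ψ, hψ⟩ : ∃ ψ : k₀.K →+* Ω, Spec.map (CommRingCat.ofHom ψ) = a₀.left :=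
    ⟨(Spec.preimage a₀.left).hom, Spec.map_preimage _⟩
  obtain rfl : Spec.map (CommRingCat.ofHom ψ) ≫ k₀.str = w := by rw [hψ]; exact Over.w a₀
  obtain rfl : a₀ = Over.homMk (Spec.map (CommRingCat.ofHom ψ)) rfl := Over.OverMorphism.ext hψ.symm
  let T' : Over S := Over.mk (Spec.map (CommRingCat.ofHom ψ) ≫ k₀.str)
  let α : T' ⟶ k₀.pt := Over.homMk (Spec.map (CommRingCat.ofHom ψ)) rfl
  have hcomp : (yon S).map α ≫ k₀.toHom = (yon S).map a₁ ≫ k.toHom := by
    apply (J S).uliftYonedaEquiv.injective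
    erw [← GrothendieckTopology.uliftYonedaEquiv_naturality, ← GrothendieckTopology.uliftYonedaEquiv_naturality,
      FieldPt.uliftYonedaEquiv_toHom, FieldPt.uliftYonedaEquiv_toHom]
    exact he
  have sqP' : IsPullback (pullback.fst f ((yon S).map α ≫ k₀.toHom)) (pullback.snd _ _) f _ :=
    IsPullback.of_hasPullback f ((yon S).map α ≫ k₀.toHom)
  have hN := H Ω ψ _ _ _ sqP'
  let pr := hQ.lift (pullback.fst f ((yon S).map α ≫ k₀.toHom)) (pullback.snd _ _ ≫ (yon S).map a₁)
    (by rw [Category.assoc, ← hcomp, sqP'.w])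
  have sqpr : IsPullback pr (pullback.snd f _) qsnd ((yon S).map a₁) := by
    refine IsPullback.of_right ?_ (hQ.lift_snd _ _ _) hQ
    rw [hQ.lift_fst, ← hcomp]
    exact sqP'
  obtain ⟨χ, hχ⟩ : ∃ χ : CommRingCat.of k.K ⟶ CommRingCat.of Ω, Spec.map χ = a₁.left :=
    ⟨_, Spec.map_preimage _⟩
  haveI : Flat a₁.left := by
    rw [← hχ]
    refine Flat.SpecMap_iff.2 ?_
    let _ := χ.hom.toAlgebra
    exact RingHom.flat_algebraMap_iff.2 (inferInstance : Module.Flat k.K Ω)
  haveI : Surjective a₁.left := by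
    refine ⟨fun y => ⟨(IsLocalRing.closedPoint Ω : PrimeSpectrum Ω), ?_⟩⟩
    exact Subsingleton.elim (α := PrimeSpectrum k.K) _ _
  exact isReducedSp_of_cover a₁ (isAlgSpace_of_isPullback hQ hX (IsAlgSpace.yon_obj _) hY) sqpr hN

end Groth.Agent.AlgSpDec2
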