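import Groth.Agent.AlgSpDec.RelDimSp
import Groth.Agent.AlgSpDec2.GeomRedTfae
import Groth.Agent.GeomRedFlat5.Generic
import Groth.Agent.AlgSpDec.ReducedStalk

/-!
# Geometric reducedness of the fibres of a morphism of algebraic spaces, point by point
-/

set_option autoImplicit false
set_option backward.isDefEq.respectTransparency false
set_option backward.isDefEq.respectTransparency.types false

universe u

open CategoryTheory CategoryTheory.Limits AlgebraicGeometry AlgSp Groth.Agent.AlgSpLib Groth.Agent.AlgSpPts IsLocalRing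
open Groth.Agent.GeomRedFlat5

namespace Groth.Agent.AlgSpDec2.GeomRedLocus

section Schemes

variable {X Y Z : Scheme.{u}}

/-- Etale morphisms on the source. -/
theorem E_etale_comp (p : X ⟶ Y) [Etale p] (f : Y ⟶ Z) (x : X) : E (p ≫ f) x ↔ E f (p.base x) := by
  let Ω := AlgebraicClosure (Z.residueField (f.base (p.base x)))
  let φ : Z.residueField ((p ≫ f).base x) ⟶ CommRingCat.of Ω :=
    CommRingCat.ofHom (algebraMap (Z.residueField (f.base (p.base x))) Ω)
  let g := Spec.map φ ≫ Z.fromSpecResidueField ((p ≫ f).base x)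
  obtain ⟨v, hv⟩ := exists_point (p ≫ f) x Ω φ
  let m : pullback (p ≫ f) g ⟶ pullback f g :=
    (pullbackRightPullbackFstIso f g p).inv ≫ pullback.snd p (pullback.fst f g)
  haveI : Etale m := inferInstance
  have hm : m ≫ pullback.fst f g = pullback.fst (p ≫ f) g ≫ p := by
    simp only [m, Category.assoc]
    rw [← pullback.condition, pullbackRightPullbackFstIso_inv_fst_assoc]
  have hmv : (pullback.fst f g).base (m.base v) = p.base x := by
    rw [← Scheme.Hom.comp_apply, hm, Scheme.Hom.comp_apply]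
    exact congrArg p.base hv
  have hiff := AlgSpDec.isReduced_stalk_iff_of_etale m v
  exact ⟨fun h => E_of_isReduced_field g (m.base v) hmv (hiff.1 (isReduced_pullback_field h g v hv)),
    fun h => E_of_isReduced_field g v hv (hiff.2 (isReduced_pullback_field h g _ hmv))⟩

/-- Etale morphisms on the target. -/
theorem E_comp_etale (k : X ⟶ Y) (e : Y ⟶ Z) [Etale e] (x : X) : E (k ≫ e) x ↔ E k x := by
  let Ω := AlgebraicClosure (Y.residueField (k.base x))
  let φ : Y.residueField (k.base x) ⟶ CommRingCat.of Ω :=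
    CommRingCat.ofHom (algebraMap (Y.residueField (k.base x)) Ω)
  let g' := Spec.map φ ≫ Y.fromSpecResidueField (k.base x)
  obtain ⟨v, hv⟩ := exists_point k x Ω φ
  let m : pullback k g' ⟶ pullback (k ≫ e) (g' ≫ e) := pullback.mapDesc k g' e
  haveI : IsOpenImmersion m :=
    MorphismProperty.of_isPullback (P := @IsOpenImmersion) (pullback_map_diagonal_isPullback k g' e) inferInstance
  have hm : m ≫ pullback.fst (k ≫ e) (g' ≫ e) = pullback.fst k g' := by
    simp [m, pullback.mapDesc]
  have hmv : (pullback.fst (k ≫ e) (g' ≫ e)).base (m.base v) = x := by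
    rw [← Scheme.Hom.comp_apply, hm]
    exact hv
  have hiff := AlgSpDec.isReduced_stalk_iff_of_etale m v
  exact ⟨fun h => E_of_isReduced_field g' v hv (hiff.2 (isReduced_pullback_field h (g' ≫ e) _ hmv)),
    fun h => E_of_isReduced_field (g' ≫ e) (m.base v) hmv (hiff.1 (isReduced_pullback_field h g' v hv))⟩

/-- Over a field: geometric reducedness implies reducedness. -/
theorem isReduced_stalk_of_E {K : Type u} [Field K] (q : X ⟶ Spec (CommRingCat.of K)) (x : X) (h : E q x) :
    _root_.IsReduced (X.presheaf.stalk x) := by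
  let z := (inv (pullback.fst q (𝟙 _))).base x
  have hz : (pullback.fst q (𝟙 _)).base z = x := by
    simp only [z, ← Scheme.Hom.comp_apply, IsIso.inv_hom_id]
    rfl
  have h1 := isReduced_pullback_field h (𝟙 _) z hz
  rw [AlgSpDec.isReduced_stalk_iff_of_etale (pullback.fst q (𝟙 _)) z] at h1
  rwa [hz] at h1

/-- Over a perfect field: reducedness is geometric. -/
theorem E_of_isReduced_stalk {K : Type u} [Field K] [PerfectField K] (q : X ⟶ Spec (CommRingCat.of K)) (x : X)
    (h : _root_.IsReduced (X.presheaf.stalk x)) : E q x := by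
  let z := (inv (pullback.fst q (𝟙 _))).base x
  have hz : (pullback.fst q (𝟙 _)).base z = x := by
    simp only [z, ← Scheme.Hom.comp_apply, IsIso.inv_hom_id]
    rfl
  refine E_of_isReduced_field (𝟙 _) z hz ?_
  rw [AlgSpDec.isReduced_stalk_iff_of_etale (pullback.fst q (𝟙 _)) z, hz]
  exact h

end Schemes

variable {S : Scheme.{u}}

/-- Geometric reducedness of the fibre in a chart at a point. -/
abbrev GoodAt {F G : Sp S} (f : F ⟶ G) (x : Points F) : Prop := HasAtMor (fun _ _ h u => E h u) f x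

/-- Independence of the chart. -/
theorem E_congr {F G : Sp S} {f : F ⟶ G} {U V U' V' : Over S}
    {a : (yon S).obj U ⟶ F} {b : (yon S).obj V ⟶ G} {h : U ⟶ V} {u : ↥U.left}
    {a' : (yon S).obj U' ⟶ F} {b' : (yon S).obj V' ⟶ G} {h' : U' ⟶ V'} {u' : ↥U'.left}
    (ha : RepWith @Etale a) (hb : RepWith @Etale b) (w : a ≫ f = (yon S).map h ≫ b)
    (ha' : RepWith @Etale a') (hb' : RepWith @Etale b') (w' : a' ≫ f = (yon S).map h' ≫ b')
    (he : Points.ofPt a u = Points.ofPt a' u') : E h.left u ↔ E h'.left u' := by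
  let pa : ha.rep.pullback a' ⟶ U := ha.rep.fst' a'
  let pa' : ha.rep.pullback a' ⟶ U' := ha.rep.snd a'
  let wb : hb.rep.pullback b' ⟶ V := hb.rep.fst' b'
  let wb' : hb.rep.pullback b' ⟶ V' := hb.rep.snd b'
  have sqA := ha.rep.isPullback' a'
  have sqB := hb.rep.isPullback' b'
  obtain ⟨z, hz, hz'⟩ := exists_ofPt_of_eq sqA he
  haveI : Etale pa'.left := ha.property_snd a'
  haveI : Etale pa.left := ha'.property _ _ _ sqA.flip
  haveI : Etale wb'.left := hb.property_snd b'
  haveI : Etale wb.left := hb'.property _ _ _ sqB.flip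
  have hc : (yon S).map (pa ≫ h) ≫ b = (yon S).map (pa' ≫ h') ≫ b' := by
    rw [(yon S).map_comp pa h, (yon S).map_comp pa' h', Category.assoc, Category.assoc, ← w, ← w',
      ← Category.assoc, sqA.w, Category.assoc]
  obtain ⟨k, hk⟩ := (yon S).map_surjective (sqB.lift _ _ hc)
  have hk₁ : k ≫ wb = pa ≫ h := (yon S).map_injective (by
    rw [(yon S).map_comp k wb, hk]; exact sqB.lift_fst _ _ _)
  have hk₂ : k ≫ wb' = pa' ≫ h' := (yon S).map_injective (by
    rw [(yon S).map_comp k wb', hk]; exact sqB.lift_snd _ _ _)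
  have e₁ : k.left ≫ wb.left = pa.left ≫ h.left := congrArg CommaMorphism.left hk₁
  have e₂ : k.left ≫ wb'.left = pa'.left ≫ h'.left := congrArg CommaMorphism.left hk₂
  rw [← hz, ← hz', ← E_etale_comp pa.left h.left z, ← E_etale_comp pa'.left h'.left z, ← e₁, ← e₂,
    E_comp_etale, E_comp_etale]

/-- A chart of a fibre over a field point with the comparison of geometric reducedness. -/
theorem exists_fibre_chart {X Y Xk : Sp S} (hX : IsAlgSpace X) (hY : IsAlgSpace Y) {f : X ⟶ Y} (k : FieldPt Y)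
    {fst : Xk ⟶ X} {snd : Xk ⟶ (yon S).obj k.pt} (sq : IsPullback fst snd f k.toHom) :
    ∃ (U' : Over S) (a' : (yon S).obj U' ⟶ Xk) (q : U'.left ⟶ Spec (CommRingCat.of k.K)),
      RepWith @Etale a' ∧ RepWith @Surjective a' ∧
      ∀ z : ↥U'.left, GoodAt f (Points.map fst (Points.ofPt a' z)) ↔ E q z := by
  obtain ⟨U, V, W, a, b, c, h, h₁, a', ha, hb, hc, w, ha', hs', w', w''⟩ :=
    AlgSpDec.exists_baseChange_charts sq hX hY (IsAlgSpace.yon_obj _)
  obtain ⟨γ, hγ⟩ := (yon S).map_surjective c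
  haveI : Etale γ.left := (repWith_yon_map_iff _ γ).1 (hγ ▸ hc)
  refine ⟨_, a', (pullback.snd h h₁).left ≫ γ.left, ha', hs', fun z => ?_⟩
  have hx : Points.map fst (Points.ofPt a' z) = Points.ofPt a ((pullback.fst h h₁).left.base z) := by
    rw [Points.map_ofPt, w'', ofPt_comp]
  have sq' := (IsPullback.of_hasPullback h h₁).map (Over.forget S)
  rw [E_comp_etale]
  refine Iff.trans ?_ (E_iff_of_isPullback sq' z).symm
  constructor
  · rintro ⟨U₀, V₀, a₀, b₀, h₀, u₀, ha₀, hb₀, w₀, hx₀, hu₀⟩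
    exact (E_congr ha₀ hb₀ w₀ ha hb w (hx₀.trans hx)).1 hu₀
  · exact fun hE => ⟨U, V, a, b, h, _, ha, hb, w, hx.symm, hE⟩

/-- The fibre over a field point is reduced when it is pointwise geometrically reduced. -/
theorem isReduced_fibre {X Y Xk : Sp S} (hX : IsAlgSpace X) (hY : IsAlgSpace Y) {f : X ⟶ Y} (k : FieldPt Y)
    {fst : Xk ⟶ X} {snd : Xk ⟶ (yon S).obj k.pt} (sq : IsPullback fst snd f k.toHom)
    (H : ∀ x, Points.map f x = Points.mk k → GoodAt f x) : EtaleLocally (fun U => IsReduced U) Xk := by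
  obtain ⟨U', a', q, ha', hs', hiff⟩ := exists_fibre_chart hX hY k sq
  haveI : Subsingleton ↥k.pt.left := inferInstanceAs (Subsingleton (PrimeSpectrum k.K))
  refine ⟨U', a', ha', hs', ?_⟩
  haveI : ∀ z : U'.left, _root_.IsReduced (U'.left.presheaf.stalk z) := fun z => by
    refine isReduced_stalk_of_E q z ((hiff z).1 (H _ ?_))
    obtain ⟨c, hc⟩ := (yon S).map_surjective (a' ≫ snd)
    rw [← Points.map_comp, sq.w, Points.map_comp, Points.map_ofPt, ← hc, ← Points.ofPt_toHom k (closedPoint k.K),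
      Points.map_ofPt, ofPt_comp, Subsingleton.elim (c.left z) (closedPoint k.K : ↥k.pt.left)]
  exact isReduced_of_isReduced_stalk U'.left

/-- Conversely, a reduced fibre over a perfect field point. -/
theorem goodAt_of_isReduced_fibre {X Y Xk : Sp S} (hX : IsAlgSpace X) (hY : IsAlgSpace Y) {f : X ⟶ Y} (k : FieldPt Y)
    [PerfectField k.K] {fst : Xk ⟶ X} {snd : Xk ⟶ (yon S).obj k.pt} (sq : IsPullback fst snd f k.toHom)
    (H : EtaleLocally (fun U => IsReduced U) Xk) (x : Points X) (hx : Points.map f x = Points.mk k) :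
    GoodAt f x := by
  obtain ⟨U', a', q, ha', hs', hiff⟩ := exists_fibre_chart hX hY k sq
  obtain ⟨x', rfl, -⟩ := exists_point_of_isPullback sq (x := x) (y := Points.ofScheme k.pt (closedPoint k.K))
    (by rw [hx, ← Points.ofPt_toHom k, Points.ofPt_eq_map_ofScheme])
  obtain ⟨z, rfl⟩ := surjective_ofPt hs' x'
  haveI := AlgSpDec.isReduced_chart H ha'
  exact (hiff z).2 (E_of_isReduced_stalk q z inferInstance)

/-- Geometrically reduced fibres, point by point. -/
theorem forall_reduced_iff {X Y : Sp S} (hX : IsAlgSpace X) (hY : IsAlgSpace Y) (f : X ⟶ Y) (y : Points Y) :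
    (∀ k : FieldPt Y, Points.mk k = y → ∀ (Xk : Sp S) (a : Xk ⟶ X) (b : Xk ⟶ (yon S).obj k.pt),
      IsPullback a b f k.toHom → EtaleLocally (fun U => IsReduced U) Xk) ↔
      ∀ x, Points.map f x = y → GoodAt f x := by
  refine ⟨fun H x hx => ?_, fun H k hk Xk a b sq => isReduced_fibre hX hY k sq fun x hx => H x (hx.trans hk)⟩
  obtain ⟨k, rfl⟩ := Quotient.exists_rep y
  let Ω := AlgebraicClosure k.K
  obtain ⟨v, hv, hmk⟩ := exists_fieldPt_ext k Ω
    (Over.homMk (Spec.map (CommRingCat.ofHom (algebraMap k.K Ω))) rfl :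
      Over.mk (Spec.map (CommRingCat.ofHom (algebraMap k.K Ω)) ≫ k.str) ⟶ k.pt)
  haveI : PerfectField (FieldPt.mk (F := Y) Ω (Spec.map (CommRingCat.ofHom (algebraMap k.K Ω)) ≫ k.str) v).K :=
    inferInstanceAs (PerfectField (AlgebraicClosure k.K))
  exact goodAt_of_isReduced_fibre hX hY _ (IsPullback.of_hasPullback f _)
    (H _ hmk _ _ _ (IsPullback.of_hasPullback f _)) x (hx.trans hmk.symm)

end Groth.Agent.AlgSpDec2.GeomRedLocus
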