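import Groth.Agent.GorFib.Etale
import Groth.Agent.AlgSpDec.Fibres
import Groth.Prelude.Def_AlgSpMor5

/-!
# Gorenstein morphisms of algebraic spaces on charts
-/

set_option backward.isDefEq.respectTransparency false
set_option backward.isDefEq.respectTransparency.types false

universe u

open CategoryTheory CategoryTheory.Limits AlgebraicGeometry Opposite AlgSp IsLocalRing Groth.Agent.AlgSpLib
  Groth.Agent.AlgSpPts

namespace Groth.Agent.AlgSpDec2

variable {S : Scheme.{u}}

/-- All fibres over field points are locally Noetherian. -/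
def LocNoethFibres {F G : Sp S} (f : F ⟶ G) : Prop :=
  ∀ (k : FieldPt G) (Xk : Sp S) (a : Xk ⟶ F) (b : Xk ⟶ (yon S).obj k.pt),
    IsPullback a b f k.toHom → IsLocNoethSp Xk

/-- The chart of a fibre over a residue field point of a chart of the target. -/
theorem exists_fibre_chart {F G : Sp S} {f : F ⟶ G} {U V : Over S} {b : (yon S).obj V ⟶ G} {h : U ⟶ V}
    {e : (yon S).obj U ⟶ pullback f b} (he : RepWith @Etale e) (hh : e ≫ pullback.snd f b = (yon S).map h)
    (v : ↥V.left) {Xv : Sp S} {a' : Xv ⟶ F}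
    {c' : Xv ⟶ (yon S).obj (Over.mk (V.left.fromSpecResidueField v ≫ V.hom))}
    (sq : IsPullback a' c' f ((yon S).map (Over.homMk (V.left.fromSpecResidueField v) rfl :
      Over.mk (V.left.fromSpecResidueField v ≫ V.hom) ⟶ V) ≫ b)) :
    ∃ (U' : Over S) (e' : (yon S).obj U' ⟶ Xv) (i : U'.left ⟶ h.left.fiber v), IsIso i ∧ RepWith @Etale e' ∧
      (RepWith @Surjective e → RepWith @Surjective e') := by
  let cT : Over.mk (V.left.fromSpecResidueField v ≫ V.hom) ⟶ V := Over.homMk (V.left.fromSpecResidueField v) rfl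
  let μ : Xv ⟶ pullback f b := pullback.lift a' (c' ≫ (yon S).map cT) (by rw [sq.w, Category.assoc])
  have sμ : IsPullback μ c' (pullback.snd f b) ((yon S).map cT) := by
    refine IsPullback.of_right ?_ (pullback.lift_snd _ _ _) (IsPullback.of_hasPullback f b)
    rw [pullback.lift_fst]
    exact sq
  let U' : Over S := pullback h cT
  have sU : IsPullback ((yon S).map (pullback.fst h cT)) ((yon S).map (pullback.snd h cT)) ((yon S).map h)
      ((yon S).map cT) := (IsPullback.of_hasPullback h cT).map (yon S)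
  let e' : (yon S).obj U' ⟶ Xv :=
    sμ.lift ((yon S).map (pullback.fst h cT) ≫ e) ((yon S).map (pullback.snd h cT))
      (by rw [Category.assoc, hh]; exact sU.w)
  have se : IsPullback ((yon S).map (pullback.fst h cT)) e' e μ := by
    refine IsPullback.of_bot ?_ (sμ.lift_fst _ _ _).symm sμ
    rw [IsPullback.lift_snd, hh]
    exact sU
  have sl : IsPullback (pullback.fst h cT).left (pullback.snd h cT).left h.left cT.left :=
    (IsPullback.of_hasPullback h cT).map (CategoryTheory.Over.forget S)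
  exact ⟨U', e', (sl.isoPullback.hom : U'.left ⟶ h.left.fiber v),
    inferInstanceAs (IsIso sl.isoPullback.hom), repWith_of_isPullback se he,
    fun hs => repWith_of_isPullback se hs⟩

/-- The fibres of the top arrow of a chart diagram are locally Noetherian. -/
theorem isLocallyNoetherian_fibre_of_chart {F G : Sp S} {f : F ⟶ G} (hf : LocNoethFibres f)
    {U V : Over S} {a : (yon S).obj U ⟶ F} {b : (yon S).obj V ⟶ G} {h : U ⟶ V} (ha : RepWith @Etale a)
    (hb : RepWith @Etale b) (w : a ≫ f = (yon S).map h ≫ b) (v : ↥V.left) :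
    IsLocallyNoetherian (h.left.fiber v) := by
  let cT : Over.mk (V.left.fromSpecResidueField v ≫ V.hom) ⟶ V := Over.homMk (V.left.fromSpecResidueField v) rfl
  have hα : RepWith @Etale (pullback.lift a ((yon S).map h) w) :=
    repWith_etale_of_comp _ (pullback.fst f b) (by rw [pullback.lift_fst]; exact ha) (repWith_fst f hb)
  have sq := IsPullback.of_hasPullback f ((yon S).map cT ≫ b)
  have hN : IsLocNoethSp (pullback f ((yon S).map cT ≫ b)) := by
    refine hf (FieldPt.ofPt b v) _ (pullback.fst _ _) (pullback.snd _ _) ?_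
    rw [FieldPt.toHom_ofPt]
    exact sq
  obtain ⟨U', e', i, hi, he', -⟩ := exists_fibre_chart hα (pullback.lift_snd _ _ _) v sq
  have := AlgSpDec.isLocallyNoetherian_chart he' hN
  exact LocallyOfFiniteType.isLocallyNoetherian (inv i)

/-- The local rings of a scheme are Gorenstein when those of an etale cover are. -/
theorem gor_stalk_of_etale {W U : Scheme.{u}} [IsLocallyNoetherian U] (r : W ⟶ U) [Etale r] (z : W)
    (h : LocCoh.IsGorensteinLocalRing (W.presheaf.stalk z)) : LocCoh.IsGorensteinLocalRing (U.presheaf.stalk (r z)) :=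
  (GorFib.of_flat_noetherian r z h).2

/-- The local rings of an etale scheme over a Gorenstein scheme are Gorenstein. -/
theorem gor_stalk_etale {W U : Scheme.{u}} [IsLocallyNoetherian U] (r : W ⟶ U) [Etale r] (z : W)
    (h : LocCoh.IsGorensteinLocalRing (U.presheaf.stalk (r z))) : LocCoh.IsGorensteinLocalRing (W.presheaf.stalk z) := by
  haveI : IsLocallyNoetherian W := LocallyOfFiniteType.isLocallyNoetherian r
  letI := (r.stalkMap z).hom.toAlgebra
  haveI : Module.Flat (U.presheaf.stalk (r z)) (W.presheaf.stalk z) := Flat.stalkMap r z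
  haveI : IsLocalHom (algebraMap (U.presheaf.stalk (r z)) (W.presheaf.stalk z)) :=
    inferInstanceAs (IsLocalHom (r.stalkMap z).hom)
  refine (GorFib.gor_iff (U.presheaf.stalk (r z)) (W.presheaf.stalk z)).2 ⟨h, ?_⟩
  exact ((GorFib.gorAt_iff r z).1 (GorFib.gorAt_of_etale r z)).2

/-- An etale chart of a Gorenstein space is a Gorenstein scheme. -/
theorem isGorenstein_chart {F : Sp S} (hF : EtaleLocally Dual3.IsGorenstein F) {U : Over S}
    {a : (yon S).obj U ⟶ F} (ha : RepWith @Etale a) : Dual3.IsGorenstein U.left := by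
  obtain ⟨W, c, hc, hcs, hW⟩ := hF
  have : IsLocallyNoetherian W.left := hW.1
  have hU : IsLocallyNoetherian U.left := AlgSpDec.isLocallyNoetherian_chart ha ⟨W, c, hc, hcs, hW.1⟩
  refine ⟨hU, fun x => ?_⟩
  have : Etale (hc.rep.snd a).left := hc.property_snd a
  have : Surjective (hc.rep.snd a).left := hcs.property _ _ _ (hc.rep.isPullback a)
  have : Etale (hc.rep.fst' a).left := ha.property _ _ _ (hc.rep.isPullback' a).flip
  obtain ⟨z, rfl⟩ := (hc.rep.snd a).left.surjective x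
  exact gor_stalk_of_etale _ z (gor_stalk_etale (hc.rep.fst' a).left z (hW.2 _))

/-- A common refinement of two charts through the same point. -/
theorem exists_chart_refine {F G : Sp S} {f : F ⟶ G} {U V U₁ V₁ : Over S} {a : (yon S).obj U ⟶ F}
    {b : (yon S).obj V ⟶ G} {h : U ⟶ V} {a₁ : (yon S).obj U₁ ⟶ F}
    {b₁ : (yon S).obj V₁ ⟶ G} {h₁ : U₁ ⟶ V₁} (ha : RepWith @Etale a) (hb : RepWith @Etale b)
    (w : a ≫ f = (yon S).map h ≫ b) (ha₁ : RepWith @Etale a₁) (hb₁ : RepWith @Etale b₁)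
    (w₁ : a₁ ≫ f = (yon S).map h₁ ≫ b₁) {u : U.left} {u₁ : U₁.left}
    (hu : Points.ofPt a u = Points.ofPt a₁ u₁) :
    ∃ (U₂ V₂ : Scheme.{u}) (r : U₂ ⟶ U.left) (r₁ : U₂ ⟶ U₁.left) (e : V₂ ⟶ V.left) (e₁ : V₂ ⟶ V₁.left)
      (k : U₂ ⟶ V₂) (z : U₂), Etale r ∧ Etale r₁ ∧ Etale e ∧ Etale e₁ ∧
        k ≫ e = r ≫ h.left ∧ k ≫ e₁ = r₁ ≫ h₁.left ∧ r z = u ∧ r₁ z = u₁ := by
  obtain ⟨z, hz, hz₁⟩ := exists_ofPt_of_eq (ha.rep.isPullback' a₁) hu
  obtain ⟨k, hk, hk₁⟩ : ∃ k, k ≫ hb.rep.fst' b₁ = ha.rep.fst' a₁ ≫ h ∧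
      k ≫ hb.rep.snd b₁ = ha.rep.snd a₁ ≫ h₁ := by
    obtain ⟨k, hk⟩ := (yon S).map_surjective ((hb.rep.isPullback' b₁).lift ((yon S).map (ha.rep.fst' a₁ ≫ h))
      ((yon S).map (ha.rep.snd a₁ ≫ h₁)) (by
        rw [Functor.map_comp, Functor.map_comp, Category.assoc, Category.assoc, ← w, ← w₁, ← Category.assoc,
          ← Category.assoc]
        exact congrArg (· ≫ f) (ha.rep.isPullback' a₁).w))
    exact ⟨k, (yon S).map_injective (by rw [Functor.map_comp, hk, IsPullback.lift_fst]),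
      (yon S).map_injective (by rw [Functor.map_comp, hk, IsPullback.lift_snd])⟩
  exact ⟨_, _, _, _, _, _, k.left, z, ha₁.2 a _ _ (ha.rep.isPullback' a₁).flip, ha.property_snd a₁,
    hb₁.2 b _ _ (hb.rep.isPullback' b₁).flip, hb.property_snd b₁,
    congrArg Over.Hom.left hk, congrArg Over.Hom.left hk₁, hz, hz₁⟩

/-- Flatness at a point is tested on one chart. -/
theorem flatAtMor_iff_chart {F G : Sp S} {f : F ⟶ G} {U V : Over S} {a : (yon S).obj U ⟶ F}
    {b : (yon S).obj V ⟶ G} {h : U ⟶ V} (ha : RepWith @Etale a) (hb : RepWith @Etale b)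
    (w : a ≫ f = (yon S).map h ≫ b) (u : U.left) :
    IsFlatAtMor f (Points.ofPt a u) ↔ (h.left.stalkMap u).hom.Flat := by
  refine ⟨fun H => H a b h u ha hb w rfl, fun H U₁ V₁ a₁ b₁ h₁ u₁ ha₁ hb₁ w₁ hu₁ => ?_⟩
  obtain ⟨U₂, V₂, r, r₁, e, e₁, k, z, hr, hr₁, he, he₁, hk, hk₁, rfl, rfl⟩ :=
    exists_chart_refine ha hb w ha₁ hb₁ w₁ hu₁.symm
  have h1 := (flatAt_comp_left_iff r h.left z (Flat.stalkMap r z)).2 H
  rw [← hk, GorFib.flat_right_iff] at h1
  refine (flatAt_comp_left_iff r₁ h₁.left z (Flat.stalkMap r₁ z)).1 ?_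
  rw [← hk₁, GorFib.flat_right_iff]
  exact h1

/-- Being Gorenstein at a point is tested on one chart. -/
theorem gorAtMor_iff_chart {F G : Sp S} {f : F ⟶ G} (hf : LocNoethFibres f) {U V : Over S}
    {a : (yon S).obj U ⟶ F} {b : (yon S).obj V ⟶ G} {h : U ⟶ V} (ha : RepWith @Etale a)
    (hb : RepWith @Etale b) (w : a ≫ f = (yon S).map h ≫ b) (u : U.left) :
    LocPAt (fun h u => Dual3.IsGorensteinAt h u) f (Points.ofPt a u) ↔ Dual3.IsGorensteinAt h.left u := by
  refine ⟨fun H => H a b h u ha hb w rfl, fun H U₁ V₁ a₁ b₁ h₁ u₁ ha₁ hb₁ w₁ hu₁ => ?_⟩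
  obtain ⟨U₂, V₂, r, r₁, e, e₁, k, z, hr, hr₁, he, he₁, hk, hk₁, rfl, rfl⟩ :=
    exists_chart_refine ha hb w ha₁ hb₁ w₁ hu₁.symm
  have hN := isLocallyNoetherian_fibre_of_chart hf ha hb w (h.left (r z))
  have hN₁ := isLocallyNoetherian_fibre_of_chart hf ha₁ hb₁ w₁
  have h1 := (GorFib.gor_left_iff r h.left z hN).2 H
  have hN' : ∀ s, IsLocallyNoetherian ((k ≫ e).fiber s) := fun s => by
    rw [hk]
    have := isLocallyNoetherian_fibre_of_chart hf ha hb w s
    exact Triage.CMBC.isLocallyNoetherian_fibre_comp r h.left s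
  have hN₁' : ∀ s, IsLocallyNoetherian ((k ≫ e₁).fiber s) := fun s => by
    rw [hk₁]
    have := hN₁ s
    exact Triage.CMBC.isLocallyNoetherian_fibre_comp r₁ h₁.left s
  rw [← hk, GorFib.gor_right_iff k e z (hN' _)] at h1
  refine (GorFib.gor_left_iff r₁ h₁.left z (hN₁ _)).1 ?_
  rw [← hk₁, GorFib.gor_right_iff k e₁ z (hN₁' _)]
  exact h1

/-- Every point of the source lies in a chart diagram. -/
theorem exists_chart_through {F G : Sp S} (hF : IsAlgSpace F) (hG : IsAlgSpace G) (f : F ⟶ G) (x : Points F) :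
    ∃ (U V : Over S) (a : (yon S).obj U ⟶ F) (b : (yon S).obj V ⟶ G) (h : U ⟶ V) (u : U.left),
      RepWith @Etale a ∧ RepWith @Etale b ∧ RepWith @Surjective a ∧ RepWith @Surjective b ∧
        a ≫ f = (yon S).map h ≫ b ∧ Points.ofPt a u = x := by
  obtain ⟨V, b, hb, hbs⟩ := hG.atlas
  obtain ⟨U, e, h, he, hes, hh⟩ := exists_chart_over hF hG f b
  have has := repWith_comp hes (repWith_fst f hbs)
  obtain ⟨u, hu⟩ := surjective_ofPt has x
  exact ⟨U, V, _, b, h, u, repWith_comp he (repWith_fst f hb), hb, has, hbs,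
    by rw [Category.assoc, pullback.condition, ← Category.assoc, hh], hu⟩

/-- Compatible charts for a composite, through a point of the source. -/
theorem exists_chart_pair_through {F G H : Sp S} (hF : IsAlgSpace F) (hG : IsAlgSpace G) (hH : IsAlgSpace H)
    (f : F ⟶ G) (g : G ⟶ H) (x : Points F) :
    ∃ (U V W : Over S) (a : (yon S).obj U ⟶ F) (b : (yon S).obj V ⟶ G) (c : (yon S).obj W ⟶ H) (h : U ⟶ V)
      (k : V ⟶ W) (u : U.left),
      RepWith @Etale a ∧ RepWith @Etale b ∧ RepWith @Etale c ∧ a ≫ f = (yon S).map h ≫ b ∧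
        b ≫ g = (yon S).map k ≫ c ∧ a ≫ f ≫ g = (yon S).map (h ≫ k) ≫ c ∧ Points.ofPt a u = x := by
  obtain ⟨W, c, hc, hcs⟩ := hH.atlas
  obtain ⟨V, e, k, he, hes, hk⟩ := exists_chart_over hG hH g c
  have hb : RepWith @Etale (e ≫ pullback.fst g c) := repWith_comp he (repWith_fst g hc)
  have hbs : RepWith @Surjective (e ≫ pullback.fst g c) := repWith_comp hes (repWith_fst g hcs)
  obtain ⟨U, e', h, he', hes', hh⟩ := exists_chart_over hF hG f (e ≫ pullback.fst g c)
  obtain ⟨u, hu⟩ := surjective_ofPt (repWith_comp hes' (repWith_fst f hbs)) x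
  have w₁ : (e' ≫ pullback.fst f _) ≫ f = (yon S).map h ≫ e ≫ pullback.fst g c := by
    rw [Category.assoc, pullback.condition, ← Category.assoc, hh]
  have w₂ : (e ≫ pullback.fst g c) ≫ g = (yon S).map k ≫ c := by
    rw [Category.assoc, pullback.condition, ← Category.assoc, hk]
  exact ⟨U, V, W, _, _, c, h, k, u, repWith_comp he' (repWith_fst f hb), hb, hc, w₁, w₂,
    by rw [← Category.assoc, w₁, Category.assoc, w₂, Functor.map_comp, Category.assoc], hu⟩

end Groth.Agent.AlgSpDec2
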