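import Groth.Agent.AlgSpPts.Dim
import Groth.Agent.AlgSpPts.Univ
import Groth.Agent.AlgSpDec.EtCompact
import Groth.Agent.AlgSpDec.AffineRep
import Groth.Agent.AlgSpLib.Rep
import Groth.Agent.DimLift.Basic

/-!
# Dimension and integral morphisms of algebraic spaces
-/

set_option backward.isDefEq.respectTransparency false
set_option backward.isDefEq.respectTransparency.types false

universe u

open CategoryTheory CategoryTheory.Limits AlgebraicGeometry AlgSp Groth.Agent.AlgSpLib Groth.Agent.AlgSpPts
  Groth.Agent.AlgSpDec

namespace Groth.Agent.AlgSpDec2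

variable {S : Scheme.{u}} {F G : Sp S} {f : F ⟶ G}

theorem dim_le_of_integral (hG : IsAlgSpace G) (hf : RepWith @IsIntegralHom f) :
    AlgSp.dim F ≤ AlgSp.dim G := by
  obtain ⟨U, b, hb, hbs⟩ := hG.atlas
  have sq := hf.rep.isPullback b
  have hfst : RepWith @Etale (hf.rep.fst b) := repWith_of_isPullback sq.flip hb
  have hfst' : RepWith @Surjective (hf.rep.fst b) := repWith_of_isPullback sq.flip hbs
  have : IsIntegralHom (hf.rep.snd b).left := hf.property_snd b
  refine dim_le_iff.2 fun V a ha v => ?_
  obtain ⟨w, hw⟩ := surjective_ofPt hfst' (Points.ofPt a v)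
  rw [coheight_eq_of_charts ha hfst hw.symm]
  let _ : PartialOrder ↥(hf.rep.pullback b).left := specializationOrder _
  refine (Order.coheight_le_krullDim w).trans ?_
  rw [← topologicalKrullDim_eq_krullDim]
  exact (DimLift.le_of_incomparable _ (hf.rep.snd b).left.continuous fun _ _ h he =>
      eq_of_specializes_of_isIntegralHom (hf.rep.snd b).left h he).trans
    (le_iSup₂_of_le U b (le_iSup_of_le hb le_rfl))

theorem dim_le_of_integral_surjective (hf : RepWith @IsIntegralHom f)
    (hs : Function.Surjective (Points.map f)) : AlgSp.dim G ≤ AlgSp.dim F := by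
  refine iSup₂_le fun U b => iSup_le fun hb => ?_
  have sq := hf.rep.isPullback b
  have hfst : RepWith @Etale (hf.rep.fst b) := repWith_of_isPullback sq.flip hb
  have : IsIntegralHom (hf.rep.snd b).left := hf.property_snd b
  have : Surjective (hf.rep.snd b).left := (repWith_surjective_of_surjective hf.rep hs).property _ _ _ sq
  exact (DimLift.le_of_specializing _ (hf.rep.snd b).left.surjective
      (hf.rep.snd b).left.isClosedMap.specializingMap).trans
    (le_iSup₂_of_le _ _ (le_iSup_of_le hfst le_rfl))

end Groth.Agent.AlgSpDec2
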