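import Groth.Agent.AlgSpVal.ValThrough
import Groth.Agent.AlgSpVal.DvrSep
import Groth.Agent.AlgSpDec.MonoPoint
import Groth.Agent.AlgSpDec.Closed

/-!
# Locally Noetherian fibres do not depend on the representative of a point
-/

set_option backward.isDefEq.respectTransparency false
set_option backward.isDefEq.respectTransparency.types false

universe u

open CategoryTheory Limits Opposite AlgebraicGeometry AlgSp Groth.Agent.AlgSpLib Groth.Agent.AlgSpVal IsLocalRing

namespace Groth.Agent.AlgSpDec2

variable {S : Scheme.{u}}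

/-- A morphism between spectra of fields over the base is flat, surjective and universally open. -/
theorem field_cover {K K' : Type u} [Field K] [Field K'] (g : Spec (CommRingCat.of K') ⟶ Spec (CommRingCat.of K)) :
    Flat g ∧ Surjective g ∧ UniversallyOpen g := by
  obtain ⟨φ, rfl⟩ : ∃ φ : CommRingCat.of K ⟶ CommRingCat.of K', Spec.map φ = g := ⟨_, Spec.map_preimage _⟩
  have hsub : Subsingleton ↥(Spec (CommRingCat.of K)) := inferInstanceAs (Subsingleton (PrimeSpectrum K))
  have hne : Nonempty ↥(Spec (CommRingCat.of K')) := inferInstanceAs (Nonempty (PrimeSpectrum K'))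
  refine ⟨?_, ⟨fun y => ⟨hne.some, Subsingleton.elim _ _⟩⟩, ?_⟩
  · rw [HasRingHomProperty.Spec_iff (P := @Flat)]
    letI := φ.hom.toAlgebra
    exact (inferInstance : Module.Flat K K')
  · have : IsIntegral (Spec (CommRingCat.of K)) := inferInstance
    infer_instance

/-- Being locally Noetherian descends along a cover of the base by a field extension. -/
theorem isLocNoethSp_of_cover {T T' : Over S} (k : T' ⟶ T) [Flat k.left] [Surjective k.left]
    [UniversallyOpen k.left] {P P' : Sp S} (hP : IsAlgSpace P)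
    {q : P ⟶ (yon S).obj T} {pr : P' ⟶ P} {q' : P' ⟶ (yon S).obj T'} (sq : IsPullback pr q' q ((yon S).map k))
    (hN : IsLocNoethSp P') : IsLocNoethSp P := by
  obtain ⟨U, a, ha, ha'⟩ := hP.atlas
  obtain ⟨c, hc⟩ := (yon S).map_surjective (a ≫ q)
  let U' : Over S := Over.mk (pullback.fst c.left k.left ≫ U.hom)
  let u₁ : U' ⟶ U := CategoryTheory.Over.homMk (pullback.fst c.left k.left) rfl
  let u₂ : U' ⟶ T' := CategoryTheory.Over.homMk (pullback.snd c.left k.left) (by
    rw [← Over.w k, ← Category.assoc, ← pullback.condition, Category.assoc, Over.w c]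
    rfl)
  have sq0 : IsPullback ((yon S).map u₁) ((yon S).map u₂) (a ≫ q) ((yon S).map k) := by
    rw [← hc]
    refine IsPullback.map (yon S) ?_
    exact IsPullback.of_map (CategoryTheory.Over.forget S) (Over.OverMorphism.ext pullback.condition)
      (IsPullback.of_hasPullback c.left k.left)
  let a' : (yon S).obj U' ⟶ P' := sq.lift ((yon S).map u₁ ≫ a) ((yon S).map u₂)
    (by rw [Category.assoc, sq0.w])
  have sq1 : IsPullback ((yon S).map u₁) a' a pr :=
    IsPullback.of_bot (by rw [sq.lift_snd]; exact sq0) (sq.lift_fst _ _ _).symm sq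
  have ha1 : RepWith @Etale a' := repWith_of_isPullback sq1 ha
  have : IsLocallyNoetherian U'.left := AlgSpDec.isLocallyNoetherian_chart ha1 hN
  have : Flat u₁.left := MorphismProperty.pullback_fst _ _ ‹Flat k.left›
  have : Surjective u₁.left := MorphismProperty.pullback_fst _ _ ‹Surjective k.left›
  have : UniversallyOpen u₁.left := MorphismProperty.pullback_fst _ _ ‹UniversallyOpen k.left›
  exact ⟨U, a, ha, ha', isLocallyNoetherian_of_flat u₁.left⟩

/-- A finite separable extension of the first field through which a point of an etale chart is seen. -/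
theorem isLocNoethSp_fibre_chart {X Y : Sp S} (hX : IsAlgSpace X) (hY : IsAlgSpace Y) (f : X ⟶ Y)
    (p : FieldPt Y) (hN : IsLocNoethSp (pullback f p.toHom))
    {V : Over S} {b : (yon S).obj V ⟶ Y} (hb : RepWith @Etale b) {v : ↥V.left}
    (hv : Points.ofPt b v = Points.mk p)
    {Q : Sp S} {qfst : Q ⟶ X} {qsnd : Q ⟶ (yon S).obj (FieldPt.ofPt b v).pt}
    (hQ : IsPullback qfst qsnd f (FieldPt.ofPt b v).toHom) : IsLocNoethSp Q := by
  let R := hb.rep.pullback p.toHom
  let r₁ : R ⟶ V := hb.rep.fst' p.toHom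
  let r₂ : R ⟶ p.pt := hb.rep.snd p.toHom
  have sqR : IsPullback ((yon S).map r₁) ((yon S).map r₂) b p.toHom := hb.rep.isPullback' p.toHom
  obtain ⟨r, hr₁, -⟩ := exists_ofPt_of_eq sqR (u := v) (v := (closedPoint p.K : ↥p.pt.left))
    (hv.trans (Points.ofPt_toHom p _).symm)
  have : Etale r₂.left := hb.property_snd p.toHom
  obtain ⟨K', _, ψ, k, hfin, hkr, hkw⟩ := exists_separable_point r₂.left r
  let T' : Over S := Over.mk (Spec.map (CommRingCat.ofHom ψ) ≫ p.str)
  let α : T' ⟶ p.pt := CategoryTheory.Over.homMk (Spec.map (CommRingCat.ofHom ψ)) rfl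
  let kR : T' ⟶ R := CategoryTheory.Over.homMk k (by
    rw [← Over.w r₂, ← Category.assoc, hkw]
    rfl)
  have : IsReduced T'.left := inferInstanceAs (IsReduced (Spec (CommRingCat.of K')))
  obtain ⟨l, hl⟩ := AlgSpDec.exists_factor_residueField (kR ≫ r₁).left v (fun t => by
    have ht : t = (closedPoint K' : PrimeSpectrum K') := Subsingleton.elim (α := PrimeSpectrum K') _ _
    rw [Over.comp_left, Scheme.Hom.comp_apply, ht]
    exact (congrArg r₁.left hkr).trans hr₁)
  let β : T' ⟶ (FieldPt.ofPt b v).pt := CategoryTheory.Over.homMk l (by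
    change l ≫ V.left.fromSpecResidueField v ≫ V.hom = T'.hom
    rw [← Category.assoc, hl, ← Over.w (kR ≫ r₁)])
  have hcomp : (yon S).map β ≫ (FieldPt.ofPt b v).toHom = (yon S).map α ≫ p.toHom := by
    have e1 : β ≫ CategoryTheory.Over.homMk (V.left.fromSpecResidueField v) rfl = kR ≫ r₁ :=
      Over.OverMorphism.ext hl
    have e2 : kR ≫ r₂ = α := Over.OverMorphism.ext hkw
    rw [FieldPt.toHom_ofPt, ← Functor.map_comp_assoc]
    refine ((congrArg (fun m => (yon S).map m ≫ b) e1).trans ?_)
    rw [Functor.map_comp, Category.assoc, sqR.w, ← Functor.map_comp_assoc, e2]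
  let P' := pullback f ((yon S).map α ≫ p.toHom)
  have sqP' : IsPullback (pullback.fst f _) (pullback.snd f _) f ((yon S).map α ≫ p.toHom) :=
    IsPullback.of_hasPullback f _
  let pr : P' ⟶ pullback f p.toHom := pullback.lift (pullback.fst f _) (pullback.snd f _ ≫ (yon S).map α)
    (by rw [Category.assoc, sqP'.w])
  have sqpr : IsPullback pr (pullback.snd f _) (pullback.snd f p.toHom) ((yon S).map α) := by
    refine IsPullback.of_right ?_ (pullback.lift_snd _ _ _) (IsPullback.of_hasPullback f p.toHom)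
    rw [pullback.lift_fst]
    exact sqP'
  have hP' : IsAlgSpace P' := isAlgSpace_pullback hX (IsAlgSpace.yon_obj _) hY f _
  have hP : IsAlgSpace (pullback f p.toHom) := isAlgSpace_pullback hX (IsAlgSpace.yon_obj _) hY f _
  have hft : LocallyOfFiniteType α.left := by
    change LocallyOfFiniteType (Spec.map (CommRingCat.ofHom ψ))
    have : IsFinite (Spec.map (CommRingCat.ofHom ψ)) := by
      rw [IsFinite.SpecMap_iff]
      exact hfin.1
    infer_instance
  have hN' : IsLocNoethSp P' := isLocNoethSp_of_lft hP' hP pr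
    (locP_of_repWith (repWith_of_isPullback sqpr.flip ((repWith_yon_map_iff _ _).2 hft))) hN
  let pr₂ : P' ⟶ Q := hQ.lift (pullback.fst f _) (pullback.snd f _ ≫ (yon S).map β)
    (by rw [Category.assoc, hcomp, sqP'.w])
  have sqpr₂ : IsPullback pr₂ (pullback.snd f _) qsnd ((yon S).map β) := by
    refine IsPullback.of_right ?_ (hQ.lift_snd _ _ _) hQ
    rw [hQ.lift_fst, hcomp]
    exact sqP'
  obtain ⟨h1, h2, h3⟩ := field_cover (K := V.left.residueField v) (K' := K') l
  have : Flat β.left := h1
  have : Surjective β.left := h2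
  have : UniversallyOpen β.left := h3
  exact isLocNoethSp_of_cover β (isAlgSpace_of_isPullback hQ hX (IsAlgSpace.yon_obj _) hY) sqpr₂ hN'

end Groth.Agent.AlgSpDec2

namespace Groth.Agent.AlgSpDec2

variable {S : Scheme.{u}}

/-- The fibre over a monomorphic representative is locally Noetherian as soon as one fibre is. -/
theorem isLocNoethSp_fibre_mono {X Y : Sp S} (hX : IsAlgSpace X) (hY : IsAlgSpace Y) (f : X ⟶ Y)
    (p p₀ : FieldPt Y) (hpp : Points.mk p = Points.mk p₀) [Mono p₀.toHom]
    (hN : IsLocNoethSp (pullback f p.toHom))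
    {Q : Sp S} {qfst : Q ⟶ X} {qsnd : Q ⟶ (yon S).obj p₀.pt}
    (hQ : IsPullback qfst qsnd f p₀.toHom) : IsLocNoethSp Q := by
  obtain ⟨V, b, v, -, hb, hv⟩ := AlgSpDec.exists_affine_chart_at hY (Points.mk p₀)
  let R := hb.rep.pullback p₀.toHom
  let r₁ : R ⟶ V := hb.rep.fst' p₀.toHom
  let r₂ : R ⟶ p₀.pt := hb.rep.snd p₀.toHom
  have sqR : IsPullback ((yon S).map r₁) ((yon S).map r₂) b p₀.toHom := hb.rep.isPullback' p₀.toHom
  obtain ⟨r, hr₁, -⟩ := exists_ofPt_of_eq sqR (u := v) (v := (closedPoint p₀.K : ↥p₀.pt.left))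
    (hv.trans (Points.ofPt_toHom p₀ _).symm)
  subst hr₁
  have : Mono ((yon S).map r₁) := sqR.mono_fst_of_mono
  have : Mono r₁ := (yon S).mono_of_mono_map this
  have : Mono (Spec.map (r₁.left.residueFieldMap r) ≫ V.left.fromSpecResidueField (r₁.left r)) := by
    rw [Scheme.Hom.SpecMap_residueFieldMap_fromSpecResidueField]
    exact mono_comp _ _
  have : Mono (Spec.map (r₁.left.residueFieldMap r)) := mono_of_mono _ (V.left.fromSpecResidueField (r₁.left r))
  have : Nonempty ↥(Spec (R.left.residueField r)) := inferInstanceAs (Nonempty (PrimeSpectrum _))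
  have : IsIso (Spec.map (r₁.left.residueFieldMap r)) :=
    AlgSpPts.isIso_of_mono_to_field (K := ↥(V.left.residueField (r₁.left r))) (Spec.map (r₁.left.residueFieldMap r))
  let sv : (FieldPt.ofPt b (r₁.left r)).pt ⟶ R :=
    CategoryTheory.Over.homMk (inv (Spec.map (r₁.left.residueFieldMap r)) ≫ R.left.fromSpecResidueField r) (by
      rw [Category.assoc, IsIso.inv_comp_eq, ← Over.w r₁, ← Scheme.Hom.SpecMap_residueFieldMap_fromSpecResidueField_assoc]
      rfl)
  let β : (FieldPt.ofPt b (r₁.left r)).pt ⟶ p₀.pt := sv ≫ r₂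
  have hcomp : (yon S).map β ≫ p₀.toHom = (FieldPt.ofPt b (r₁.left r)).toHom := by
    have e1 : sv ≫ r₁ = CategoryTheory.Over.homMk (V.left.fromSpecResidueField (r₁.left r)) rfl :=
      Over.OverMorphism.ext (by
        change (inv (Spec.map (r₁.left.residueFieldMap r)) ≫ R.left.fromSpecResidueField r) ≫ r₁.left = _
        rw [Category.assoc, IsIso.inv_comp_eq]
        exact (Scheme.Hom.SpecMap_residueFieldMap_fromSpecResidueField _ _).symm)
    rw [FieldPt.toHom_ofPt]
    refine Eq.trans ?_ (congrArg (fun m => (yon S).map m ≫ b) e1)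
    rw [Functor.map_comp, Functor.map_comp, Category.assoc, Category.assoc, sqR.w]
  let P' := pullback f (FieldPt.ofPt b (r₁.left r)).toHom
  have sqP' := IsPullback.of_hasPullback f (FieldPt.ofPt b (r₁.left r)).toHom
  have hN' : IsLocNoethSp P' := isLocNoethSp_fibre_chart hX hY f p hN hb (hv.trans hpp.symm) sqP'
  let pr : P' ⟶ Q := hQ.lift (pullback.fst f _) (pullback.snd f _ ≫ (yon S).map β)
    (by rw [Category.assoc, hcomp, sqP'.w])
  have sqpr : IsPullback pr (pullback.snd f _) qsnd ((yon S).map β) := by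
    refine IsPullback.of_right ?_ (hQ.lift_snd _ _ _) hQ
    rw [hQ.lift_fst, hcomp]
    exact sqP'
  obtain ⟨h1, h2, h3⟩ := field_cover (K := p₀.K) (K' := V.left.residueField (r₁.left r)) β.left
  have : Flat β.left := h1
  have : Surjective β.left := h2
  have : UniversallyOpen β.left := h3
  exact isLocNoethSp_of_cover β (isAlgSpace_of_isPullback hQ hX (IsAlgSpace.yon_obj _) hY) sqpr hN'

end Groth.Agent.AlgSpDec2
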