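import Groth.Agent.AlgSpDec.Fibres
import Groth.Agent.AlgSpDec.PointsSpectral
import Groth.Agent.S2011
import Mathlib.Topology.JacobsonSpace
import Mathlib.Topology.Spectral.Basic
import Mathlib.RingTheory.Spectrum.Prime.Jacobson

/-!
# Proper generisations of a point

The punctured spectrum of a Noetherian local ring is Jacobson, and so is its image under a map
with finite fibres along which generalisations lift.
-/

set_option backward.isDefEq.respectTransparency false
set_option backward.isDefEq.respectTransparency.types false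

open Topology TopologicalSpace IsLocalRing

namespace Groth.Agent.AlgSpDec2.PuncturedGen

universe u v

theorem jacobsonSpace_punct (R : Type u) [CommRing R] [IsNoetherianRing R] [IsLocalRing R] :
    JacobsonSpace {p : PrimeSpectrum R // p ≠ closedPoint R} := by
  let U : maximalIdeal R → Opens {p : PrimeSpectrum R // p ≠ closedPoint R} := fun f =>
    ⟨Subtype.val ⁻¹' (PrimeSpectrum.basicOpen (f : R) : Set (PrimeSpectrum R)),
      (PrimeSpectrum.basicOpen (f : R)).2.preimage continuous_subtype_val⟩
  have hU : IsOpenCover U := by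
    refine IsOpenCover.mk (eq_top_iff.2 fun p _ => ?_)
    obtain ⟨f, hf, hfp⟩ : ∃ f ∈ maximalIdeal R, f ∉ p.1.asIdeal :=
      Set.not_subset.1 fun h => p.2 (PrimeSpectrum.ext (le_antisymm (le_maximalIdeal p.1.isPrime.ne_top) h))
    exact Opens.mem_iSup.2 ⟨⟨f, hf⟩, hfp⟩
  refine (IsOpenCover.jacobsonSpace_iff hU).2 fun f => ?_
  haveI : IsJacobsonRing (Localization.Away (f : R)) :=
    Groth.Agent.S2011.result R (maximalIdeal R) (maximalIdeal_le_jacobson _) f f.2
  haveI : JacobsonSpace (PrimeSpectrum (Localization.Away (f : R))) :=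
    PrimeSpectrum.isJacobsonRing_iff_jacobsonSpace.1 ‹_›
  have he := PrimeSpectrum.localization_away_isOpenEmbedding (Localization.Away (f : R)) (f : R)
  have hr := PrimeSpectrum.localization_away_comap_range (Localization.Away (f : R)) (f : R)
  haveI : JacobsonSpace ↥(Set.range (PrimeSpectrum.comap (algebraMap R (Localization.Away (f : R))))) :=
    JacobsonSpace.of_isOpenEmbedding he.isEmbedding.toHomeomorph.symm.isOpenEmbedding
  let φ : ↥(U f) → ↥(Set.range (PrimeSpectrum.comap (algebraMap R (Localization.Away (f : R))))) :=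
    fun p => ⟨p.1.1, by rw [hr]; exact p.2⟩
  have h1 : IsOpenEmbedding (Subtype.val ∘ φ) :=
    ((isClosed_singleton_closedPoint (R := R)).isOpen_compl.isOpenEmbedding_subtypeVal).comp
      (U f).2.isOpenEmbedding_subtypeVal
  exact JacobsonSpace.of_isOpenEmbedding (IsOpenEmbedding.of_comp φ he.isOpen_range.isOpenEmbedding_subtypeVal h1)

variable {P : Type u} {W : Type v} [TopologicalSpace P] [TopologicalSpace W]

theorem jacobsonSpace_of_lift [JacobsonSpace P] [T0Space W] [NoetherianSpace W] (g : P → W) (hc : Continuous g)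
    (hs : Function.Surjective g) (hfin : ∀ z, (g ⁻¹' {z}).Finite)
    (hno : ∀ p q, g p = g q → p ⤳ q → p = q)
    (hlift : ∀ z q, z ⤳ g q → ∃ p, p ⤳ q ∧ g p = z) : JacobsonSpace W := by
  rw [jacobsonSpace_iff_locallyClosed]
  intro Z hZ hZl
  obtain ⟨z, hz, hzc⟩ : ∃ z ∈ Z, IsLocallyClosed ({z} : Set W) := by
    haveI : Nonempty Z := hZ.to_subtype
    obtain ⟨w, -, hw⟩ := IsClosed.exists_closed_singleton (isClosed_univ (X := Z)) Set.univ_nonempty
    refine ⟨w.1, w.2, ?_⟩
    have h1 := hw.isLocallyClosed.image IsInducing.subtypeVal (by rwa [Subtype.range_coe])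
    rwa [Set.image_singleton] at h1
  refine ⟨z, hz, ?_⟩
  have hF : IsLocallyClosed (g ⁻¹' {z}) := hzc.preimage hc
  haveI : Finite ↥(g ⁻¹' {z}) := (hfin z).to_subtype
  haveI : T1Space ↥(g ⁻¹' {z}) := t1Space_iff_specializes_imp_eq.2 fun p q h =>
    Subtype.ext (hno p.1 q.1 (p.2.trans q.2.symm) (h.map continuous_subtype_val))
  have hcl : ∀ p, g p = z → IsClosed ({p} : Set P) := fun p hp => by
    refine isClosed_singleton_of_isLocallyClosed_singleton ?_
    have h1 := (isClosed_singleton (x := (⟨p, hp⟩ : ↥(g ⁻¹' {z})))).isLocallyClosed.image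
      IsInducing.subtypeVal (by rwa [Subtype.range_coe])
    rwa [Set.image_singleton] at h1
  rw [mem_closedPoints_iff]
  refine isClosed_of_closure_subset fun y hy => ?_
  obtain ⟨q, rfl⟩ := hs y
  obtain ⟨p, hpq, hp⟩ := hlift z q (specializes_iff_mem_closure.2 hy)
  have : q ∈ ({p} : Set P) := by
    have := hpq.mem_closure
    rwa [(hcl p hp).closure_eq] at this
  rw [Set.mem_singleton_iff] at this ⊢
  rw [this, hp]

theorem spectralSpace_of_noetherian [T0Space W] [QuasiSober W] [NoetherianSpace W] : SpectralSpace W :=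
  { toT0Space := inferInstance
    toCompactSpace := inferInstance
    toQuasiSober := inferInstance
    toQuasiSeparatedSpace := inferInstance
    toPrespectralSpace := inferInstance }

end Groth.Agent.AlgSpDec2.PuncturedGen
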