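import Groth.Agent.AlgSpDec.FiniteCrit
import Groth.Agent.AlgSpDec.FibreCodim
import Groth.Agent.AlgSpDec.ResTrdeg
import Groth.Agent.AlgSpDec.GenFiniteDense
import Groth.Agent.AlgSpDec.CodimZero
import Groth.Agent.AlgSpDec.Fibres
import Groth.Agent.AlgSpDec.PointsSpectral
import Groth.Agent.AlgSpPts.OpenSub
import Groth.Agent.DimFormula.Scheme
import Groth.Agent.DimFormula.Codim

/-!
# Quasi-finiteness over points of codimension at most one
-/

set_option backward.isDefEq.respectTransparency false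
set_option backward.isDefEq.respectTransparency.types false

universe u

open CategoryTheory CategoryTheory.Limits AlgebraicGeometry AlgSp Groth.Agent.AlgSpLib Groth.Agent.AlgSpPts
  Groth.Agent.AlgSpDec

namespace Groth.Agent.AlgSpDec2.QfCodimOne

variable {S : Scheme.{u}}

theorem fibreDimAt_zero {X Y : Scheme.{u}} (f : X ⟶ Y) [LocallyOfFiniteType f] [IsLocallyNoetherian Y] {x : X}
    (hy : Order.coheight (f x) ≤ 1)
    (h : ∀ η, η ⤳ x → Order.coheight η = 0 → FibDim.rd f η = 0) : FlatMor.fibreDimAt f x = 0 := by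
  haveI := LocallyOfFiniteType.isLocallyNoetherian f
  rw [FieldFibre.fibreDimAt_eq_zero_iff_rd]
  intro z hz hzx
  obtain ⟨η, hηg, hη⟩ := MorLib.Birat.exists_generic (X := X) z
  have hη0 := GenFiniteDense.coheight_of_generic hηg
  have h0 := h η (hη.trans hz) hη0
  have h1 := (DimFormula.cd_formula f hη).1
  rw [h0] at h1
  by_cases he : η = z
  · exact he ▸ h0
  have h2 : DimFormula.cd η z ≠ 0 := fun e => he ((DimFormula.cd_eq_zero_iff hη).1 e)
  have h3 : DimFormula.codim (f z) ≤ 1 := by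
    rw [hzx]
    have := (DimFormula.coe_codim (f x)).le.trans hy
    exact_mod_cast this
  have h4 := DimFormula.cd_le_codim (hη.map f.continuous)
  omega

theorem coheight_le_one {Y : Sp S} {W : Over S} {b : (yon S).obj W ⟶ Y} (hb : RepWith @Etale b)
    {w : ↥W.left} (hy : HasAt (fun U u => ringKrullDim ↥(U.presheaf.stalk u) ≤ 1) Y (Points.ofPt b w)) :
    Order.coheight w ≤ 1 := by
  obtain ⟨U, a, u, ha, hu, h0⟩ := hy
  rw [coheight_eq_of_charts hb ha hu.symm]
  rw [ringKrullDim_stalk_eq_coheight] at h0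
  exact_mod_cast h0

theorem qfAt_of_trdeg {X Y : Space S} (f : X ⟶ Y) (hf : LocP @LocallyOfFiniteType f.hom)
    (hY : IsLocNoethSp Y.obj) (y : Points Y.obj)
    (hy : HasAt (fun U u => ringKrullDim ↥(U.presheaf.stalk u) ≤ 1) Y.obj y)
    (h : ∀ x : Points X.obj, HasAt (fun U u => ringKrullDim ↥(U.presheaf.stalk u) = 0) X.obj x →
      Points.map f.hom x ⤳ y → HasAtMor (fun _ _ h u => Dual3.resTrdeg h u = 0) f.hom x)
    (x : Points X.obj) (hx : Points.map f.hom x = y) :
    PointLocus.At (fun {_ _} h u => FlatMor.fibreDimAt h u = 0) f.hom x := by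
  obtain ⟨U, V, a, b, g, ha, has, hb, -, w⟩ := exists_chart X.property Y.property f.hom
  haveI : LocallyOfFiniteType g.left := hf a b g ha hb w
  haveI := isLocallyNoetherian_chart hb hY
  obtain ⟨u, rfl⟩ := surjective_ofPt has x
  have hpt : ∀ v, Points.map f.hom (Points.ofPt a v) = Points.ofPt b (g.left v) := fun v => by
    rw [Points.map_ofPt, w, ofPt_comp]
  refine (PointLocus.at_iff_chart PointLocus.ptProp_lqf hf ha hb w u).2
    (fibreDimAt_zero g.left (coheight_le_one hb (by rw [← hpt, hx]; exact hy)) fun η hη hη0 => ?_)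
  have h0 := h _ ((FibreCodim.hasAt_iff_coheight ha η).2 hη0)
    (hx ▸ (hη.map (Points.continuous_ofPt a)).map (Points.continuous_map f.hom))
  have h1 : VarDim.rdeg g.left η = 0 := (ResTrdeg.hasAtMor_iff ha hb w η 0).1 h0
  rw [← FibDim.rd_eq_rdeg] at h1
  exact_mod_cast h1

theorem trdeg_of_qf {X Y : Sp S} {f : X ⟶ Y} (hf : LocP @LocallyOfFiniteType f) (x : Points X)
    (h : PointLocus.At (fun {_ _} h u => FlatMor.fibreDimAt h u = 0) f x) :
    HasAtMor (fun _ _ h u => Dual3.resTrdeg h u = 0) f x := by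
  obtain ⟨U, V, a, b, g, u, ha, hb, w, hx, h0⟩ := h
  haveI : LocallyOfFiniteType g.left := hf a b g ha hb w
  refine ⟨U, V, a, b, g, u, ha, hb, w, hx, ?_⟩
  show VarDim.rdeg g.left u = 0
  rw [← FibDim.rd_eq_rdeg, (FieldFibre.fibreDimAt_eq_zero_iff_rd g.left u).1 h0 u specializes_rfl rfl, Nat.cast_zero]

/-- A dense open of a locally Noetherian scheme contains every maximal point. -/
theorem mem_of_dense {X : Scheme.{u}} [IsLocallyNoetherian X] {O : Set X} (hO : IsOpen O) (hd : Dense O)
    {η : X} (hη : Order.coheight η = 0) : η ∈ O := by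
  by_contra hne
  obtain ⟨A, hA, hηA, -⟩ := exists_isAffineOpen_mem_and_subset (U := (⊤ : X.Opens)) (x := η) trivial
  haveI : IsNoetherianRing Γ(X, A) := IsLocallyNoetherian.component_noetherian ⟨A, hA⟩
  haveI : TopologicalSpace.NoetherianSpace ↥A.toScheme := noetherianSpace_of_isAffineOpen A hA
  haveI : IsAffine A.toScheme := hA
  let a : ↥A.toScheme := ⟨η, hηA⟩
  have ha0 : Order.coheight a = 0 := Order.coheight_eq_zero.2 fun z hz => by
    have h1 : A.ι z = η := eq_of_specializes_of_coheight hη ((hz : z ⤳ a).map A.ι.continuous)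
    exact (show z = a from A.ι.injective h1) ▸ le_rfl
  refine notMem_closure_of_isCompact (X := A.toScheme) (K := A.ι ⁻¹' O)
    (TopologicalSpace.NoetherianSpace.isCompact _) (hO.preimage A.ι.continuous) ha0 hne ?_
  rw [← A.ι.isOpenEmbedding.isOpenMap.preimage_closure_eq_closure_preimage A.ι.continuous, hd.closure_eq]
  trivial

theorem qf_of_dense {X Y : Space S} (f : X ⟶ Y) (hf : LocP @LocallyOfFiniteType f.hom)
    (hY : IsLocNoethSp Y.obj)
    (h : Dense {x : Points X.obj | PointLocus.At (fun {_ _} h u => FlatMor.fibreDimAt h u = 0) f.hom x})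
    (x : Points X.obj) (hx : HasAt (fun U u => ringKrullDim ↥(U.presheaf.stalk u) = 0) X.obj x) :
    PointLocus.At (fun {_ _} h u => FlatMor.fibreDimAt h u = 0) f.hom x := by
  obtain ⟨U, V, a, b, g, ha, has, hb, -, w⟩ := exists_chart X.property Y.property f.hom
  haveI : LocallyOfFiniteType g.left := hf a b g ha hb w
  haveI := isLocallyNoetherian_chart hb hY
  haveI := LocallyOfFiniteType.isLocallyNoetherian g.left
  obtain ⟨u, rfl⟩ := surjective_ofPt has x
  have heq : Points.ofPt a ⁻¹' {x : Points X.obj | PointLocus.At (fun {_ _} h u => FlatMor.fibreDimAt h u = 0) f.hom x} =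
      {v | FlatMor.fibreDimAt g.left v = 0} :=
    Set.ext fun v => PointLocus.at_iff_chart PointLocus.ptProp_lqf hf ha hb w v
  have hd := h.preimage (isOpenMap_ofPt ha)
  rw [heq] at hd
  exact (PointLocus.at_iff_chart PointLocus.ptProp_lqf hf ha hb w u).2
    (mem_of_dense (PointLocus.ptProp_lqf.isOpen g.left) hd ((FibreCodim.hasAt_iff_coheight ha u).1 hx))

/-- A proper morphism which is quasi-finite over a point is finite over a neighbourhood of it. -/
theorem exists_finite_nhd {X Y : Space S} (f : X ⟶ Y) (hf : IsProperMor f.hom) (y : Points Y.obj)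
    (h : ∀ x, Points.map f.hom x = y → PointLocus.At (fun {_ _} h u => FlatMor.fibreDimAt h u = 0) f.hom x) :
    ∃ (Y' : Space S) (j : Y' ⟶ Y), RepWith @IsOpenImmersion j.hom ∧
      y ∈ Set.range (Points.map j.hom) ∧
      ∀ (P : Space S) (fst : P ⟶ Y') (snd : P ⟶ X), IsPullback fst.hom snd.hom j.hom f.hom →
        IsFiniteMor fst.hom := by
  let Q : Set (Points X.obj) := {x | PointLocus.At (fun {_ _} h u => FlatMor.fibreDimAt h u = 0) f.hom x}
  have hQ : IsOpen Q := by
    obtain ⟨U, V, a, b, g, ha, has, hb, -, w⟩ := exists_chart X.property Y.property f.hom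
    haveI : LocallyOfFiniteType g.left := hf.2.1.1 a b g ha hb w
    rw [← (isQuotientMap_ofPt ha has).isOpen_preimage, show Points.ofPt a ⁻¹' Q = {v | FlatMor.fibreDimAt g.left v = 0} from
      Set.ext fun v => PointLocus.at_iff_chart PointLocus.ptProp_lqf hf.2.1.1 ha hb w v]
    exact PointLocus.ptProp_lqf.isOpen g.left
  have hcl : IsClosedMap (Points.map f.hom) :=
    hf.2.2 Y.property (𝟙 Y.obj) (𝟙 X.obj) f.hom (IsPullback.of_horiz_isIso ⟨by simp⟩)
  have hW : IsOpen (Points.map f.hom '' Qᶜ)ᶜ := (hcl _ hQ.isClosed_compl).isOpen_compl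
  obtain ⟨Y₀, j, hY₀, hj, hr⟩ := exists_open_subspace Y.property hW
  refine ⟨⟨Y₀, hY₀⟩, ⟨j⟩, hj, ?_, fun P fst snd sq => ?_⟩
  · show y ∈ Set.range (Points.map j)
    rw [hr]
    rintro ⟨x, hx, rfl⟩
    exact hx (h x rfl)
  · refine finite_of_proper_of_qf X.property Y.property hY₀ hf sq.flip fun z => ?_
    by_contra hz
    have h1 : Points.map j (Points.map fst.hom z) ∈ (Points.map f.hom '' Qᶜ)ᶜ := hr ▸ ⟨_, rfl⟩
    refine h1 ⟨Points.map snd.hom z, hz, ?_⟩
    rw [← Points.map_comp, ← Points.map_comp]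
    exact congrArg (Points.map · z) sq.w.symm

end Groth.Agent.AlgSpDec2.QfCodimOne
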