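import Groth.Agent.AlgSpDec.SchImageChart
import Groth.Agent.AlgSpLib.FlatAt
import Groth.Agent.AlgSpPts.Imm

/-!
# Scheme theoretic images and etale base change
-/

set_option backward.isDefEq.respectTransparency false
set_option backward.isDefEq.respectTransparency.types false

universe u

open CategoryTheory Limits Opposite AlgebraicGeometry AlgSp Groth.Agent.AlgSpLib Groth.Agent.AlgSpPts Groth.Agent.AlgSpDec

namespace Groth.Agent.AlgSpDec2

variable {S : Scheme.{u}} {X Y V XV Z ZV : Sp S}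

theorem ker_of_isPullback {A B A' B' : Scheme.{u}} {f : A ⟶ B} {g : B' ⟶ B} {fst : A' ⟶ A} {snd : A' ⟶ B'}
    (sq : IsPullback fst snd f g) [QuasiCompact f] [Flat g] : snd.ker = f.ker.comap g := by
  rw [← Groth.Agent.S4667.result f g, ← sq.isoPullback_hom_snd, Scheme.Hom.ker_comp_of_isIso]

theorem isSchImage_of_etale (hX : IsAlgSpace X) (hY : IsAlgSpace Y) (hV : IsAlgSpace V)
    {f : X ⟶ Y} {i : Z ⟶ Y} {bV : V ⟶ Y} (hb : IsEtaleMor bV) (hq : IsQuasiCompactMor f) (hi : IsSchImage f i)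
    {f₁ : XV ⟶ X} {fV : XV ⟶ V} {i₁ : ZV ⟶ Z} {iV : ZV ⟶ V}
    (sqX : IsPullback f₁ fV f bV) (sqZ : IsPullback i₁ iV i bV) : IsSchImage fV iV := by
  have hiV : RepWith @IsClosedImmersion iV := repWith_of_isPullback sqZ hi.1
  obtain ⟨f', hf'⟩ := hi.2.1
  refine ⟨hiV, ⟨sqZ.lift (f₁ ≫ f') fV (by rw [Category.assoc, hf', sqX.w]), sqZ.lift_snd _ _ _⟩, ?_⟩
  intro Z' i' hZ' hi' ⟨f'', hf''⟩
  obtain ⟨U, T, b, c, k, hbU, hbUs, hc, hcs, hk, hkq⟩ := exists_qc_chart hX hY hq
  haveI := hkq
  have hker := schImage_chart hX hY hbU hbUs hc hcs hk hi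
  obtain ⟨W, w₀, h, hw₀, hw₀s, hw₀h⟩ := exists_chart_over hV hY bV b
  have hw : RepWith @Etale (w₀ ≫ pullback.fst bV b) := repWith_comp hw₀ (repWith_fst bV hbU)
  have hws : RepWith @Surjective (w₀ ≫ pullback.fst bV b) := repWith_comp hw₀s (repWith_fst bV hbUs)
  have hwc : (w₀ ≫ pullback.fst bV b) ≫ bV = (yon S).map h ≫ b := by
    rw [Category.assoc, pullback.condition, reassoc_of% hw₀h]
  generalize w₀ ≫ pullback.fst bV b = w at hw hws hwc
  haveI hhe : Etale h.left :=
    (repWith_yon_map_iff _ h).1 (repWith_etale_of_comp _ b (hwc ▸ hb w hw) hbU)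
  obtain ⟨T', c', k', a', sqT, ha', ha's, hak, -⟩ :=
    exists_chart_baseChange sqX hwc hk hc hcs hw hws
  have hkT : k'.left.ker = k.left.ker.comap h.left := ker_of_isPullback (sqT.map (Over.forget S))
  let iU := hi.1.rep.snd b
  let iW := hiV.rep.snd w
  let qW := hiV.rep.fst w
  haveI : IsClosedImmersion iU.left := hi.1.property_snd b
  haveI : IsClosedImmersion (hi'.rep.snd w).left := hi'.property_snd w
  have hkW : iW.left.ker = k.left.ker.comap h.left := by
    have sq0 : IsPullback (qW ≫ i₁) ((yon S).map iW) i ((yon S).map h ≫ b) :=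
      hwc ▸ (hiV.rep.isPullback w).paste_horiz sqZ
    let l := (hi.1.rep.isPullback b).lift (qW ≫ i₁) ((yon S).map iW ≫ (yon S).map h)
      (by rw [sq0.w, Category.assoc])
    have sq1 : IsPullback l ((yon S).map iW) ((yon S).map iU) ((yon S).map h) :=
      IsPullback.of_right (by rw [IsPullback.lift_fst]; exact sq0) (IsPullback.lift_snd _ _ _ _)
        (hi.1.rep.isPullback b)
    obtain ⟨l', hl'⟩ := (yon S).map_surjective l
    rw [← hl'] at sq1
    have sq2 : IsPullback l'.left iW.left iU.left h.left :=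
      (IsPullback.of_map (yon S) (by
        exact (yon S).map_injective (by simpa only [Functor.map_comp] using sq1.w)) sq1).map (Over.forget S)
    rw [← hker]
    exact ker_of_isPullback sq2
  have h1 : (hi'.rep.snd w).left.ker ≤ iW.left.ker := by
    rw [hkW, ← hkT]
    refine (factor_iff_ker_le (hi'.rep.snd w) k').1 ((factor_iff_of_isPullback (hi'.rep.isPullback w) k').2
      ⟨a' ≫ f'', ?_⟩)
    rw [Category.assoc, hf'', hak]
  haveI : Mono i' := mono_of_closedImmersion hi'
  have sqW := hiV.rep.isPullback w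
  refine exists_factor_of_cover (repWith_of_isPullback sqW.flip hw) (repWith_of_isPullback sqW.flip hws) iV ?_
  rw [sqW.w]
  exact (factor_iff_of_isPullback (hi'.rep.isPullback w) iW).1 ((factor_iff_ker_le _ iW).2 h1)

theorem range_subset_closure_of_schImage (hX : IsAlgSpace X) (hY : IsAlgSpace Y) {f : X ⟶ Y} {i : Z ⟶ Y}
    (hq : IsQuasiCompactMor f) (hi : IsSchImage f i) :
    Set.range (Points.map i) ⊆ closure (Set.range (Points.map f)) := by
  obtain ⟨U, T, b, c, k, hbU, hbUs, hc, hcs, hk, hkq⟩ := exists_qc_chart hX hY hq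
  haveI := hkq
  have hker := schImage_chart hX hY hbU hbUs hc hcs hk hi
  rintro _ ⟨z, rfl⟩
  obtain ⟨v, hv⟩ := surjective_ofPt hbUs (Points.map i z)
  let iU := hi.1.rep.snd b
  haveI : IsClosedImmersion iU.left := hi.1.property_snd b
  obtain ⟨w, -, hwv⟩ := AlgSpPts.exists_lift (hi.1.rep.isPullback b) hv.symm
  have hv' : v ∈ closure (Set.range k.left) := by
    have h1 : v ∈ (iU.left.ker.support : Set ↥U.left) := iU.left.range_subset_ker_support ⟨w, hwv⟩
    rw [hker, Scheme.Hom.support_ker] at h1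
    exact h1
  rw [← hv]
  refine map_mem_closure (Points.continuous_ofPt b) hv' ?_
  rintro _ ⟨t, rfl⟩
  exact ⟨Points.ofPt (c ≫ pullback.fst f b) t, by
    rw [Points.map_ofPt, Category.assoc, pullback.condition, reassoc_of% hk, ofPt_comp]⟩

end Groth.Agent.AlgSpDec2
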